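import Cfsg.Agent.Lib.GLTwoThree.Table
import Cfsg.Agent.Lib.Char.Induce
import Mathlib.LinearAlgebra.Matrix.GeneralLinearGroup.Defs
import Mathlib.LinearAlgebra.Trace
import Mathlib.Analysis.Real.Sqrt
import Mathlib.Tactic.Ring

/-!
# A group with coordinates in `GL(2, 3)` and its generalized characters
-/

set_option autoImplicit false

namespace CfsgLib.GLTwoThree

open Matrix
open scoped ComplexConjugate

universe u

theorem sqrt_aux : ((Real.sqrt 2 : ℂ) * Complex.I) * ((Real.sqrt 2 : ℂ) * Complex.I) = ((-2 : ℤ) : ℂ) := by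
  rw [mul_mul_mul_comm, Complex.I_mul_I, ← Complex.ofReal_mul,
    Real.mul_self_sqrt (by norm_num)]
  norm_num

/-- The embedding of `ℤ[√-2]` into `ℂ`. -/
noncomputable def zC : Zs →+* ℂ := Zsqrtd.lift ⟨(Real.sqrt 2 : ℂ) * Complex.I, sqrt_aux⟩

theorem zC_apply (z : Zs) : zC z = (z.re : ℂ) + (z.im : ℂ) * ((Real.sqrt 2 : ℂ) * Complex.I) := rfl

theorem zC_star (z : Zs) : zC (star z) = conj (zC z) := by
  simp [zC_apply, map_add, map_mul]

/-- Coordinates identifying a group with `GL(2, 3)`. -/
structure Coord (H : Type u) [Group H] where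
  c : H → Q
  inj : Function.Injective c
  map_mul : ∀ a b, c (a * b) = mulQ (c a) (c b)
  map_one : c 1 = oneQ
  mem : ∀ a, c a ∈ elems
  surj : ∀ q ∈ elems, ∃ a, c a = q

theorem exists_coord {H : Type u} [Group H] (e : H ≃* GL (Fin 2) (ZMod 3)) : Nonempty (Coord H) := by
  let code : GL (Fin 2) (ZMod 3) → Q := fun g =>
    ((g : Matrix (Fin 2) (Fin 2) (ZMod 3)) 0 0, (g : Matrix (Fin 2) (Fin 2) (ZMod 3)) 0 1,
      (g : Matrix (Fin 2) (Fin 2) (ZMod 3)) 1 0, (g : Matrix (Fin 2) (Fin 2) (ZMod 3)) 1 1)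
  refine ⟨⟨fun a => code (e a), fun a b h => ?_, fun a b => ?_, ?_, fun a => ?_, fun q hq => ?_⟩⟩
  · simp only [code, Prod.mk.injEq] at h
    refine e.injective (Units.ext (Matrix.ext fun i j => ?_))
    fin_cases i <;> fin_cases j
    · exact h.1
    · exact h.2.1
    · exact h.2.2.1
    · exact h.2.2.2
  · simp [code, mulQ, map_mul, Matrix.mul_apply, Fin.sum_univ_two]
  · simp [code, oneQ]
  · rw [mem_elems]
    have := (Matrix.GeneralLinearGroup.det (e a)).ne_zero
    rw [Matrix.GeneralLinearGroup.val_det_apply, Matrix.det_fin_two] at this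
    exact this
  · obtain ⟨x, y, z, w⟩ := q
    have h : (!![x, y; z, w] : Matrix (Fin 2) (Fin 2) (ZMod 3)).det ≠ 0 := by
      rw [Matrix.det_fin_two]
      simpa [detQ] using (mem_elems _).mp hq
    have : Fact (Nat.Prime 3) := ⟨Nat.prime_three⟩
    refine ⟨e.symm (Matrix.GeneralLinearGroup.mkOfDetNeZero _ h), ?_⟩
    simp [code]

namespace Coord

variable {H : Type u} [Group H] (K : Coord H)

theorem map_pow (a : H) (n : ℕ) : K.c (a ^ n) = powQ (K.c a) n := by
  induction n with
  | zero => rw [pow_zero, K.map_one]; rfl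
  | succ n ih => rw [pow_succ, K.map_mul, ih]; rfl

theorem mem_invols {a : H} (ha : orderOf a = 2) : K.c a ∈ invols := by
  have h1 : a * a = 1 := by rw [← pow_two, ← ha, pow_orderOf_eq_one]
  have h2 : a ≠ 1 := fun e => by rw [e, orderOf_one] at ha; omega
  have h3 : K.c a ≠ oneQ := fun e => h2 (K.inj (e.trans K.map_one.symm))
  simp [invols, K.mem a, ← K.map_mul, h1, K.map_one, h3]

theorem orderOf_eq_two {a : H} (ha : K.c a ∈ invols) : orderOf a = 2 := by
  simp only [invols, List.mem_filter, Bool.and_eq_true, beq_iff_eq, bne_iff_ne] at ha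
  refine orderOf_eq_prime ?_ fun e => ha.2.2 (by rw [e, K.map_one])
  rw [pow_two]
  exact K.inj ((K.map_mul a a).trans (ha.2.1.trans K.map_one.symm))

include K in
theorem card [Fintype H] : Fintype.card H = 48 := by
  classical
  have h : (Finset.univ : Finset H).image K.c = elems.toFinset := by
    ext q
    simp only [Finset.mem_image, Finset.mem_univ, true_and, List.mem_toFinset]
    exact ⟨fun ⟨a, e⟩ => e ▸ K.mem a, fun hq => K.surj q hq⟩
  rw [← Finset.card_univ, ← Finset.card_image_of_injective _ K.inj, h,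
    List.toFinset_card_of_nodup elems_nodup, card_elems]

include K in
theorem natCard [Finite H] : Nat.card H = 48 := by
  have := Fintype.ofFinite H
  rw [Nat.card_eq_fintype_card, K.card]

theorem sum_comp [Fintype H] {M : Type*} [AddCommMonoid M] (F : Q → M) :
    ∑ a : H, F (K.c a) = (elems.map F).sum := by
  classical
  have h : (Finset.univ : Finset H).image K.c = elems.toFinset := by
    ext q
    simp only [Finset.mem_image, Finset.mem_univ, true_and, List.mem_toFinset]
    exact ⟨fun ⟨a, e⟩ => e ▸ K.mem a, fun hq => K.surj q hq⟩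
  rw [← List.sum_toFinset _ elems_nodup, ← h, Finset.sum_image fun a _ b _ e => K.inj e]

theorem sum_zC [Fintype H] (F : Q → Zs) :
    ∑ a : H, zC (F (K.c a)) = zC (elems.map F).sum := by
  rw [← K.sum_comp F, map_sum]

/-- The complex two-dimensional matrices. -/
noncomputable def mat (a : H) : Matrix (Fin 2) (Fin 2) ℂ :=
  !![zC (lift (K.c a)).1, zC (lift (K.c a)).2.1; zC (lift (K.c a)).2.2.1, zC (lift (K.c a)).2.2.2]

theorem mat_mul (a b : H) : K.mat (a * b) = K.mat a * K.mat b := by
  simp only [mat, K.map_mul, lift_mul _ (K.mem a) _ (K.mem b), mulL]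
  ext i j
  fin_cases i <;> fin_cases j <;> simp [Matrix.mul_apply, Fin.sum_univ_two]

theorem mat_one : K.mat 1 = 1 := by
  simp only [mat, K.map_one, lift_one]
  ext i j
  fin_cases i <;> fin_cases j <;> simp

/-- The two-dimensional representation. -/
noncomputable def rep : Representation ℂ H (Fin 2 → ℂ) where
  toFun a := Matrix.toLin' (K.mat a)
  map_one' := by rw [K.mat_one, Matrix.toLin'_one]; rfl
  map_mul' a b := by rw [K.mat_mul, Matrix.toLin'_mul]; rfl

theorem isGen_x6 : Cfsg.IsGeneralizedCharacter H fun a => zC (x6 (K.c a)) := by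
  refine CfsgLib.Char.isGeneralized_of_isCharacter ⟨2, K.rep, ?_⟩
  funext a
  show LinearMap.trace ℂ _ (Matrix.toLin' (K.mat a)) = _
  rw [Matrix.trace_toLin'_eq, Matrix.trace_fin_two]
  simp [mat, x6, map_add]

/-- The determinant of the two-dimensional representation. -/
noncomputable def lam : H →* ℂˣ :=
  MonoidHom.toHomUnits
    { toFun := fun a => zC (sgn (K.c a))
      map_one' := by simp [K.map_one, sgn, lift_one]
      map_mul' := fun a b => by
        simp only [K.map_mul, sgn, lift_mul _ (K.mem a) _ (K.mem b), mulL, map_sub, map_add,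
          _root_.map_mul]
        ring }

theorem isGen_sgn : Cfsg.IsGeneralizedCharacter H fun a => zC (sgn (K.c a)) :=
  CfsgLib.Char.isGeneralized_of_isCharacter
    (CfsgLib.Char.irr_isCharacter (CfsgLib.Char.isIrrCharacter_linear K.lam))

theorem isGen_one : Cfsg.IsGeneralizedCharacter H fun _ => (1 : ℂ) :=
  CfsgLib.Char.isGeneralized_of_isCharacter CfsgLib.Char.isCharacter_one

theorem isGen_x7 : Cfsg.IsGeneralizedCharacter H fun a => zC (x7 (K.c a)) := by
  simp only [x7, _root_.map_mul]
  exact CfsgLib.Char.isGeneralized_mul K.isGen_sgn K.isGen_x6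

theorem isGen_x5 : Cfsg.IsGeneralizedCharacter H fun a => zC (x5 (K.c a)) := by
  simp only [x5, map_sub, _root_.map_mul, _root_.map_one]
  exact CfsgLib.Char.isGeneralized_sub (CfsgLib.Char.isGeneralized_mul K.isGen_x6 K.isGen_x7)
    isGen_one

theorem isGen_x4 : Cfsg.IsGeneralizedCharacter H fun a => zC (x4 (K.c a)) := by
  simp only [x4, _root_.map_mul]
  exact CfsgLib.Char.isGeneralized_mul K.isGen_sgn K.isGen_x5

theorem isGen_x3 : Cfsg.IsGeneralizedCharacter H fun a => zC (x3 (K.c a)) := by
  simp only [x3, map_sub, _root_.map_mul, _root_.map_one]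
  exact CfsgLib.Char.isGeneralized_sub (CfsgLib.Char.isGeneralized_sub
    (CfsgLib.Char.isGeneralized_sub (CfsgLib.Char.isGeneralized_mul K.isGen_x4 K.isGen_x4)
      isGen_one) K.isGen_x4) K.isGen_x5

theorem isGen_x8 : Cfsg.IsGeneralizedCharacter H fun a => zC (x8 (K.c a)) := by
  simp only [x8, _root_.map_mul]
  exact CfsgLib.Char.isGeneralized_mul K.isGen_x3 K.isGen_x6

theorem isGen_phi (i : Fin 5) : Cfsg.IsGeneralizedCharacter H fun a => zC (phi i (K.c a)) := by
  fin_cases i <;> simp only [phi, map_sub, map_add, _root_.map_one]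
  · exact CfsgLib.Char.isGeneralized_sub
      (CfsgLib.Char.isGeneralized_add isGen_one K.isGen_x5) K.isGen_x8
  · exact CfsgLib.Char.isGeneralized_sub
      (CfsgLib.Char.isGeneralized_add K.isGen_sgn K.isGen_x4) K.isGen_x8
  · exact CfsgLib.Char.isGeneralized_sub K.isGen_x3 K.isGen_x6
  · exact CfsgLib.Char.isGeneralized_sub K.isGen_x3 K.isGen_x7
  · exact CfsgLib.Char.isGeneralized_sub
      (CfsgLib.Char.isGeneralized_add isGen_one K.isGen_x3) K.isGen_x4

theorem isGen_f : Cfsg.IsGeneralizedCharacter H fun a => zC (1 + x3 (K.c a)) := by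
  simp only [map_add, _root_.map_one]
  exact CfsgLib.Char.isGeneralized_add isGen_one K.isGen_x3

theorem classInner_phi [Fintype H] (i j : Fin 5) :
    Cfsg.classInner (fun a => zC (phi i (K.c a))) (fun a => zC (phi j (K.c a))) = gram i j := by
  rw [CfsgLib.Char.classInner_def, Nat.card_eq_fintype_card, K.card]
  simp only [← zC_star, ← _root_.map_mul]
  rw [K.sum_zC fun q => phi i q * star (phi j q), phi_gram, map_intCast]
  push_cast
  ring

theorem classInner_phi_one [Fintype H] (i : Fin 5) :
    Cfsg.classInner (fun a => zC (phi i (K.c a))) (fun _ : H => (1 : ℂ)) = triv i := by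
  rw [CfsgLib.Char.classInner_def, Nat.card_eq_fintype_card, K.card]
  simp only [_root_.map_one, mul_one]
  rw [K.sum_zC fun q => phi i q, phi_triv, map_intCast]
  push_cast
  ring

end Coord

end CfsgLib.GLTwoThree
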