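import Cfsg.Agent.Lib.GLTwoThree.Table
import Mathlib.Data.Fintype.Card
import Mathlib.Algebra.BigOperators.Group.Finset.Basic
import Mathlib.Algebra.Order.BigOperators.Ring.Finset
import Mathlib.Data.Finset.Card
import Mathlib.Tactic.Ring
import Mathlib.Tactic.Linarith
import Mathlib.Tactic.LinearCombination
import Mathlib.Tactic.FinCases

/-!
# Decomposition of the five induced generalized characters

Purely combinatorial: five integral vectors with the Gram matrix `gram`, prescribed entry at the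
trivial character and orthogonal to the vector of degrees.
-/

set_option autoImplicit false

namespace CfsgLib.GLTwoThree

open Finset

/-- The constraints satisfied by the multiplicities in the induced generalized characters. -/
structure MultData (ι : Type*) [Fintype ι] where
  k : Fin 5 → ι → ℤ
  one : ι
  d : ι → ℤ
  d_pos : ∀ x, 0 < d x
  d_one : d one = 1
  gram_eq : ∀ i j, ∑ x, k i x * k j x = gram i j
  triv_eq : ∀ i, k i one = triv i
  deg_eq : ∀ i, ∑ x, k i x * d x = 0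

variable {ι : Type*} [Fintype ι]

/-- The support of a vector. -/
def supp (v : ι → ℤ) : Finset ι := univ.filter fun x => v x ≠ 0

theorem mem_supp {v : ι → ℤ} {x : ι} : x ∈ supp v ↔ v x ≠ 0 := by simp [supp]

theorem sum_supp {M : Type*} [AddCommMonoid M] {v : ι → ℤ} {f : ι → M}
    (h : ∀ x, v x = 0 → f x = 0) : ∑ x, f x = ∑ x ∈ supp v, f x :=
  (Finset.sum_subset (Finset.subset_univ _) fun x _ hx => h x (by simpa [supp] using hx)).symm

theorem small {v : ι → ℤ} {n : ℕ} (hn : n ≤ 3) (h : ∑ x, v x * v x = n) :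
    (∀ x, v x = 0 ∨ v x = 1 ∨ v x = -1) ∧ (supp v).card = n := by
  have hb : ∀ x, v x = 0 ∨ v x = 1 ∨ v x = -1 := by
    intro x
    have h1 : v x * v x ≤ ∑ y, v y * v y :=
      single_le_sum (f := fun y => v y * v y) (fun y _ => mul_self_nonneg _) (mem_univ x)
    rw [h] at h1
    have : (n : ℤ) ≤ 3 := by exact_mod_cast hn
    by_contra hc
    push Not at hc
    rcases lt_or_gt_of_ne hc.1 with h0 | h0
    · have : v x ≤ -2 := by omega
      nlinarith
    · have : 2 ≤ v x := by omega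
      nlinarith
  refine ⟨hb, ?_⟩
  rw [sum_supp (v := v) (fun x hx => by simp [hx])] at h
  have h1 : ∀ x ∈ supp v, v x * v x = 1 := fun x hx => by
    rcases hb x with e | e | e
    · exact absurd e (mem_supp.mp hx)
    · rw [e]; rfl
    · rw [e]; rfl
  rw [Finset.sum_congr rfl h1, Finset.sum_const] at h
  simpa using h

variable [DecidableEq ι] (A : MultData ι)

theorem MultData.two (i : Fin 5) (hi : gram i i = 2) (h0 : triv i = 0) :
    ∃ P Q : ι, P ≠ Q ∧ P ≠ A.one ∧ Q ≠ A.one ∧ A.k i P = 1 ∧ A.k i Q = -1 ∧ A.d P = A.d Q ∧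
      ∀ x, x ≠ P → x ≠ Q → A.k i x = 0 := by
  obtain ⟨hb, hc⟩ := small (n := 2) (by norm_num) ((A.gram_eq i i).trans (hi.trans rfl))
  obtain ⟨P, Q, hPQ, hs⟩ := card_eq_two.mp hc
  have hd := A.deg_eq i
  rw [sum_supp (v := A.k i) (fun x hx => by simp [hx]), hs, sum_pair hPQ] at hd
  have hP : A.k i P ≠ 0 := mem_supp.mp (by simp [hs])
  have hQ : A.k i Q ≠ 0 := mem_supp.mp (by simp [hs])
  have h1 : P ≠ A.one := fun e => hP (by rw [e, A.triv_eq, h0])
  have h2 : Q ≠ A.one := fun e => hQ (by rw [e, A.triv_eq, h0])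
  have hzero : ∀ x, x ≠ P → x ≠ Q → A.k i x = 0 := fun x x1 x2 => by
    by_contra hx
    have := mem_supp.mpr hx
    simp [hs, x1, x2] at this
  have dP := A.d_pos P
  have dQ := A.d_pos Q
  rcases hb P with e | e | e
  · exact absurd e hP
  · rcases hb Q with e' | e' | e'
    · exact absurd e' hQ
    · rw [e, e'] at hd; omega
    · exact ⟨P, Q, hPQ, h1, h2, e, e', by rw [e, e'] at hd; omega, hzero⟩
  · rcases hb Q with e' | e' | e'
    · exact absurd e' hQ
    · exact ⟨Q, P, hPQ.symm, h2, h1, e', e, by rw [e, e'] at hd; omega, fun x x1 x2 => hzero x x2 x1⟩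
    · rw [e, e'] at hd; omega

theorem MultData.sum_two {i : Fin 5} {P Q : ι} (hPQ : P ≠ Q) (hP : A.k i P = 1)
    (hQ : A.k i Q = -1) (hz : ∀ x, x ≠ P → x ≠ Q → A.k i x = 0) (v : ι → ℤ) :
    ∑ x, A.k i x * v x = v P - v Q := by
  rw [Finset.sum_eq_add P Q hPQ (fun x _ hx => by rw [hz x hx.1 hx.2, zero_mul])
    (fun h => absurd (mem_univ P) h) (fun h => absurd (mem_univ Q) h), hP, hQ]
  ring

/-- The shape of `phi 2` and `phi 3`: three characters `P, Q, R` of equal degree, on which the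
`phi 0`, `phi 1` vanish; and `phi 4` meets them in exactly one. -/
theorem MultData.exists_family : ∃ P Q R : ι, P ≠ Q ∧ P ≠ R ∧ Q ≠ R ∧
    (∀ x, x ≠ P → x ≠ Q → x ≠ R → A.k 2 x = 0 ∧ A.k 3 x = 0) ∧
    (∀ x ∈ ({P, Q, R} : Finset ι), x ≠ A.one ∧ A.k 0 x = 0 ∧ A.k 1 x = 0) ∧
    A.k 4 P * A.k 4 P = 1 ∧ A.k 4 Q = 0 ∧ A.k 4 R = 0 := by
  obtain ⟨P, Q, hPQ, hP1, hQ1, hP, hQ, hdeg, hz⟩ := A.two 2 rfl rfl
  obtain ⟨P', Q', hPQ', hP1', hQ1', hP', hQ', hdeg', hz'⟩ := A.two 3 rfl rfl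
  have hprod := A.gram_eq 2 3
  rw [A.sum_two hPQ hP hQ hz] at hprod
  have g : ∀ i, A.k i P - A.k i Q = gram 2 i ∧ A.k i P' - A.k i Q' = gram 3 i := fun i =>
    ⟨(A.sum_two hPQ hP hQ hz (A.k i)).symm.trans (A.gram_eq 2 i),
      (A.sum_two hPQ' hP' hQ' hz' (A.k i)).symm.trans (A.gram_eq 3 i)⟩
  obtain ⟨b4, c4⟩ := small (v := A.k 4) (n := 3) le_rfl (A.gram_eq 4 4)
  obtain ⟨b0, c0⟩ := small (v := A.k 0) (n := 3) le_rfl (A.gram_eq 0 0)
  obtain ⟨b1, c1⟩ := small (v := A.k 1) (n := 3) le_rfl (A.gram_eq 1 1)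
  have h40 := A.triv_eq 4
  have h00 := A.triv_eq 0
  have h10 := A.triv_eq 1
  simp only [triv] at h40 h00 h10
  have g0 := g 0
  have g1 := g 1
  have g4 := g 4
  simp only [gram] at g0 g1 g4 hprod
  -- three distinct nontrivial characters of the same degree cannot lie in the support of `phi 0`
  have key0 : ∀ x y z : ι, x ≠ y → x ≠ z → y ≠ z → x ≠ A.one → y ≠ A.one → z ≠ A.one →
      A.k 0 x = A.k 0 y → A.k 0 y = A.k 0 z → A.k 0 x = 0 := by
    intro x y z hxy hxz hyz x1 y1 z1 e1 e2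
    by_contra hx
    have hsub : ({A.one, x, y, z} : Finset ι) ⊆ supp (A.k 0) := by
      intro w hw
      simp only [Finset.mem_insert, Finset.mem_singleton] at hw
      rw [mem_supp]
      rcases hw with rfl | rfl | rfl | rfl
      · omega
      · exact hx
      · omega
      · omega
    have := Finset.card_le_card hsub
    rw [c0, card_insert_of_notMem (by simp [x1.symm, y1.symm, z1.symm]),
      card_insert_of_notMem (by simp [hxy, hxz]), card_pair hyz] at this
    omega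
  have key1 : ∀ x y z : ι, x ≠ y → x ≠ z → y ≠ z → A.d x = A.d y → A.d y = A.d z →
      A.k 1 x = A.k 1 y → A.k 1 y = A.k 1 z → A.k 1 x = 0 := by
    intro x y z hxy hxz hyz d1 d2 e1 e2
    by_contra hx
    have hs : ({x, y, z} : Finset ι) = supp (A.k 1) := by
      refine Finset.eq_of_subset_of_card_le (fun w hw => ?_) ?_
      · simp only [Finset.mem_insert, Finset.mem_singleton] at hw
        rw [mem_supp]
        rcases hw with rfl | rfl | rfl <;> omega
      · rw [c1, card_insert_of_notMem (by simp [hxy, hxz]), card_pair hyz]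
    have hd := A.deg_eq 1
    rw [sum_supp (v := A.k 1) (fun x hx => by simp [hx]), ← hs,
      sum_insert (by simp [hxy, hxz]), sum_pair hyz, ← d1.trans d2, ← d1, ← e1.trans e2, ← e1] at hd
    have := A.d_pos x
    rcases b1 x with e | e | e <;> rw [e] at hd <;> omega
  have key4 : ∀ y z : ι, y ≠ z → y ≠ A.one → z ≠ A.one → A.d y = A.d z → A.k 4 y ≠ 0 →
      A.k 4 y = A.k 4 z → False := by
    intro y z hyz y1 z1 d1 hy e1
    have hs : ({A.one, y, z} : Finset ι) = supp (A.k 4) := by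
      refine Finset.eq_of_subset_of_card_le (fun w hw => ?_) ?_
      · simp only [Finset.mem_insert, Finset.mem_singleton] at hw
        rw [mem_supp]
        rcases hw with rfl | rfl | rfl <;> omega
      · rw [c4, card_insert_of_notMem (by simp [y1.symm, z1.symm]), card_pair hyz]
    have hd := A.deg_eq 4
    rw [sum_supp (v := A.k 4) (fun x hx => by simp [hx]), ← hs,
      sum_insert (by simp [y1.symm, z1.symm]), sum_pair hyz, ← d1, ← e1, h40, A.d_one] at hd
    rcases b4 y with e | e | e <;> rw [e] at hd <;> omega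
  by_cases hPP : P = P'
  · subst hPP
    have hQQ : Q ≠ Q' := fun e => by subst e; rw [hP', hQ'] at hprod; omega
    have z0 := key0 P Q Q' hPQ hPQ' hQQ hP1 hQ1 hQ1' (by omega) (by omega)
    have z1 := key1 P Q Q' hPQ hPQ' hQQ hdeg (hdeg.symm.trans hdeg') (by omega) (by omega)
    have hQ0 : A.k 4 Q = 0 := by
      by_contra h
      exact key4 Q Q' hQQ hQ1 hQ1' (hdeg.symm.trans hdeg') h (by omega)
    refine ⟨P, Q, Q', hPQ, hPQ', hQQ, fun x x1 x2 x3 => ⟨hz x x1 x2, hz' x x1 x3⟩, ?_, ?_, hQ0,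
      by omega⟩
    · intro x hx
      simp only [Finset.mem_insert, Finset.mem_singleton] at hx
      rcases hx with rfl | rfl | rfl
      · exact ⟨hP1, z0, z1⟩
      · exact ⟨hQ1, by omega, by omega⟩
      · exact ⟨hQ1', by omega, by omega⟩
    · rw [show A.k 4 P = 1 by omega]; rfl
  · have hQQ : Q = Q' := by
      by_contra hQQ
      have e1 : A.k 3 P ≤ 0 := by
        by_cases h : P = Q'
        · rw [h, hQ']; omega
        · rw [hz' P hPP h]
      have e2 : 0 ≤ A.k 3 Q := by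
        by_cases h : Q = P'
        · rw [h, hP']; omega
        · rw [hz' Q h hQQ]
      omega
    subst hQQ
    have hPQ2 : Q ≠ P' := fun e => by rw [e] at hQ'; omega
    have z0 := key0 Q P P' hPQ.symm hPQ2 hPP hQ1 hP1 hP1' (by omega) (by omega)
    have z1 := key1 Q P P' hPQ.symm hPQ2 hPP hdeg.symm (hdeg.trans hdeg'.symm) (by omega) (by omega)
    have hP0 : A.k 4 P = 0 := by
      by_contra h
      exact key4 P P' hPP hP1 hP1' (hdeg.trans hdeg'.symm) h (by omega)
    refine ⟨Q, P, P', hPQ.symm, hPQ2, hPP, fun x x1 x2 x3 => ⟨hz x x2 x1, hz' x x3 x1⟩, ?_, ?_, hP0,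
      by omega⟩
    · intro x hx
      simp only [Finset.mem_insert, Finset.mem_singleton] at hx
      rcases hx with rfl | rfl | rfl
      · exact ⟨hQ1, z0, z1⟩
      · exact ⟨hP1, by omega, by omega⟩
      · exact ⟨hP1', by omega, by omega⟩
    · rw [show A.k 4 Q = -1 by omega]; rfl

/-- The vectors `phi 0 = 1 + B + C` and `phi 1 = C + D + E`, up to sign, and their other entries. -/
theorem MultData.exists_shape : ∃ (B C D E : ι) (sB sC sD sE : ℤ),
    (sB = 1 ∨ sB = -1) ∧ (sC = 1 ∨ sC = -1) ∧ (sD = 1 ∨ sD = -1) ∧ (sE = 1 ∨ sE = -1) ∧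
    A.k 0 B = sB ∧ A.k 1 B = 0 ∧ A.k 4 B = 0 ∧
    A.k 0 C = sC ∧ A.k 1 C = sC ∧ A.k 4 C = 0 ∧
    A.k 0 D = 0 ∧ A.k 1 D = sD ∧ A.k 4 D = -sD ∧
    A.k 0 E = 0 ∧ A.k 1 E = sE ∧ A.k 4 E = 0 ∧
    (∀ x ∈ ({B, C, D, E} : Finset ι), x ≠ A.one ∧ A.k 2 x = 0 ∧ A.k 3 x = 0) ∧
    supp (A.k 0) = {A.one, B, C} ∧ supp (A.k 1) = {C, D, E} ∧
    A.one ≠ B ∧ A.one ≠ C ∧ B ≠ C ∧ C ≠ D ∧ C ≠ E ∧ D ≠ E := by
  obtain ⟨P, Q, R, hPQ, hPR, hQR, hoff, hin, hP4, hQ4, hR4⟩ := A.exists_family
  obtain ⟨b0, c0⟩ := small (v := A.k 0) (n := 3) le_rfl (A.gram_eq 0 0)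
  obtain ⟨b1, c1⟩ := small (v := A.k 1) (n := 3) le_rfl (A.gram_eq 1 1)
  obtain ⟨b4, c4⟩ := small (v := A.k 4) (n := 3) le_rfl (A.gram_eq 4 4)
  have h40 := A.triv_eq 4
  have h00 := A.triv_eq 0
  have h10 := A.triv_eq 1
  simp only [triv] at h40 h00 h10
  obtain ⟨hP1, hP0, hP01⟩ := hin P (by simp)
  have hne : ∀ x, x ≠ A.one → A.k 0 x ≠ 0 ∨ A.k 1 x ≠ 0 →
      A.k 2 x = 0 ∧ A.k 3 x = 0 := by
    intro x _ hx
    by_contra hc
    have : x ∈ ({P, Q, R} : Finset ι) := by
      by_contra h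
      simp only [Finset.mem_insert, Finset.mem_singleton, not_or] at h
      exact hc (hoff x h.1 h.2.1 h.2.2)
    obtain ⟨-, e0, e1⟩ := hin x this
    omega
  -- the third constituent of `phi 4`
  have hPmem : P ∈ supp (A.k 4) := mem_supp.mpr fun e => by rw [e] at hP4; omega
  have h1mem : A.one ∈ supp (A.k 4) := mem_supp.mpr (by omega)
  obtain ⟨D, hDs, hD1, hDP⟩ : ∃ D ∈ supp (A.k 4), D ≠ A.one ∧ D ≠ P := by
    by_contra hc
    push Not at hc
    have : supp (A.k 4) ⊆ {A.one, P} := fun x hx => by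
      simp only [Finset.mem_insert, Finset.mem_singleton]
      rw [or_iff_not_imp_left]
      exact hc x hx
    have := (Finset.card_le_card this).trans (Finset.card_le_two)
    omega
  have h4set : ({A.one, P, D} : Finset ι) = supp (A.k 4) := by
    refine Finset.eq_of_subset_of_card_le (fun w hw => ?_) ?_
    · simp only [Finset.mem_insert, Finset.mem_singleton] at hw
      rcases hw with rfl | rfl | rfl <;> assumption
    · rw [c4, card_insert_of_notMem (by simp [hP1.symm, hD1.symm]), card_pair hDP.symm]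
  have h4sum : ∀ i, gram i 4 = A.k i A.one + A.k i D * A.k 4 D + A.k i P * A.k 4 P := by
    intro i
    rw [← A.gram_eq i 4, sum_supp (v := A.k 4) (fun x hx => by simp [hx]), ← h4set,
      sum_insert (by simp [hP1.symm, hD1.symm]), sum_pair hDP.symm, h40]
    ring
  have hD4 : A.k 4 D = 1 ∨ A.k 4 D = -1 := (b4 D).resolve_left (mem_supp.mp hDs)
  have e0 := h4sum 0
  have e1 := h4sum 1
  rw [hP0] at e0
  rw [hP01] at e1
  simp only [gram, h00, h10] at e0 e1
  have hD0 : A.k 0 D = 0 := by rcases hD4 with h | h <;> rw [h] at e0 <;> omega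
  have hD01 : A.k 1 D = -A.k 4 D := by rcases hD4 with h | h <;> rw [h] at e1 ⊢ <;> omega
  -- the constituents of `phi 0`
  obtain ⟨X, Y, hXY, hXYs⟩ := card_eq_two.mp (show ((supp (A.k 0)).erase A.one).card = 2 by
    rw [card_erase_of_mem (mem_supp.mpr (by omega)), c0])
  have hX1 : X ≠ A.one ∧ X ∈ supp (A.k 0) := Finset.mem_erase.mp (by rw [hXYs]; simp)
  have hY1 : Y ≠ A.one ∧ Y ∈ supp (A.k 0) := Finset.mem_erase.mp (by rw [hXYs]; simp)
  have h0set : supp (A.k 0) = {A.one, X, Y} := by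
    rw [← hXYs, Finset.insert_erase (mem_supp.mpr (by omega))]
  have h01 := A.gram_eq 0 1
  rw [sum_supp (v := A.k 0) (fun x hx => by simp [hx]), h0set,
    sum_insert (by simp [hX1.1.symm, hY1.1.symm]), sum_pair hXY, h00, h10] at h01
  simp only [gram, mul_zero, zero_add] at h01
  obtain ⟨B, C, hB1, hC1, hBC, hBCs, hBs, hCs, hB01, hC01⟩ : ∃ B C, B ≠ A.one ∧ C ≠ A.one ∧ B ≠ C ∧
      supp (A.k 0) = {A.one, B, C} ∧ (A.k 0 B = 1 ∨ A.k 0 B = -1) ∧ (A.k 0 C = 1 ∨ A.k 0 C = -1) ∧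
      A.k 1 B = 0 ∧ A.k 1 C = A.k 0 C := by
    have hx := (b0 X).resolve_left (mem_supp.mp hX1.2)
    have hy := (b0 Y).resolve_left (mem_supp.mp hY1.2)
    rcases b1 X with ex | ex | ex <;> rcases b1 Y with ey | ey | ey <;>
      rw [ex, ey] at h01 <;> first
      | (exfalso; omega)
      | exact ⟨X, Y, hX1.1, hY1.1, hXY, h0set, hx, hy, ex, by omega⟩
      | exact ⟨Y, X, hY1.1, hX1.1, hXY.symm, by rw [h0set, Finset.pair_comm], hy, hx, ey, by omega⟩
  -- the constituents of `phi 1`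
  have hCD : C ≠ D := fun e => by rw [e, hD0] at hCs; omega
  obtain ⟨E, hEs, hEC, hED⟩ : ∃ E ∈ supp (A.k 1), E ≠ C ∧ E ≠ D := by
    by_contra hc
    push Not at hc
    have : supp (A.k 1) ⊆ {C, D} := fun x hx => by
      simp only [Finset.mem_insert, Finset.mem_singleton]
      rw [or_iff_not_imp_left]
      exact hc x hx
    have := (Finset.card_le_card this).trans (Finset.card_le_two)
    omega
  have hCm : C ∈ supp (A.k 1) := mem_supp.mpr (by omega)
  have hDm : D ∈ supp (A.k 1) := mem_supp.mpr (by omega)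
  have h1set : ({C, D, E} : Finset ι) = supp (A.k 1) := by
    refine Finset.eq_of_subset_of_card_le (fun w hw => ?_) ?_
    · simp only [Finset.mem_insert, Finset.mem_singleton] at hw
      rcases hw with rfl | rfl | rfl <;> assumption
    · rw [c1, card_insert_of_notMem (by simp [hCD, hEC.symm]), card_pair hED.symm]
  have hE1 : E ≠ A.one := fun e => mem_supp.mp hEs (by rw [e, h10])
  have hE0 : A.k 0 E = 0 := by
    by_contra h
    have : E ∈ supp (A.k 0) := mem_supp.mpr h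
    rw [hBCs] at this
    simp only [Finset.mem_insert, Finset.mem_singleton] at this
    rcases this with e | e | e
    · exact hE1 e
    · exact mem_supp.mp hEs (by rw [e, hB01])
    · exact hEC e
  have h4z : ∀ x, x ≠ A.one → x ≠ D → (A.k 0 x ≠ 0 ∨ A.k 1 x ≠ 0) → A.k 4 x = 0 := by
    intro x x1 x2 hx
    by_contra h
    have : x ∈ supp (A.k 4) := mem_supp.mpr h
    rw [← h4set] at this
    simp only [Finset.mem_insert, Finset.mem_singleton, x1, x2, or_false, false_or] at this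
    subst this
    omega
  refine ⟨B, C, D, E, A.k 0 B, A.k 0 C, A.k 1 D, A.k 1 E, hBs, hCs, by omega,
    (b1 E).resolve_left (mem_supp.mp hEs), rfl, hB01, h4z B hB1 ?_ (by omega), rfl, hC01,
    h4z C hC1 hCD (by omega), hD0, rfl, by omega, hE0, rfl,
    h4z E hE1 hED (Or.inr (mem_supp.mp hEs)), ?_, hBCs, h1set.symm, hB1.symm, hC1.symm, hBC,
    hCD, hEC.symm, hED.symm⟩
  · intro e
    rw [e, hD0] at hBs
    omega
  · intro x hx
    simp only [Finset.mem_insert, Finset.mem_singleton] at hx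
    rcases hx with rfl | rfl | rfl | rfl
    · exact ⟨hB1, hne _ hB1 (by omega)⟩
    · exact ⟨hC1, hne _ hC1 (by omega)⟩
    · exact ⟨hD1, hne _ hD1 (by omega)⟩
    · exact ⟨hE1, hne _ hE1 (Or.inr (mem_supp.mp hEs))⟩

end CfsgLib.GLTwoThree
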