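import Cfsg.Agent.Lib.GLTwoThree.Coord
import Cfsg.Agent.Lib.Transfer.Thompson
import Mathlib.GroupTheory.Subgroup.Simple
import Mathlib.Tactic.Group

/-!
# Groups with an involution whose centralizer is `GL(2, 3)`: the special classes
-/

set_option autoImplicit false

namespace CfsgLib.GLTwoThree

open scoped ComplexConjugate

universe u

variable {G : Type u} [Group G] {t : G} (ht : orderOf t = 2)
  (K : Coord (Subgroup.centralizer ({t} : Set G)))

theorem t_mem : t ∈ (Subgroup.centralizer ({t} : Set G)) := Subgroup.mem_centralizer_singleton_iff.mpr rfl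

include ht in
theorem c_t : K.c ⟨t, t_mem⟩ = tQ := by
  refine tQ_unique _ (K.mem_invols (by rwa [Subgroup.orderOf_mk])) fun r hr => ?_
  obtain ⟨a, rfl⟩ := K.surj r hr
  rw [← K.map_mul, ← K.map_mul]
  exact congrArg K.c (Subtype.ext (Subgroup.mem_centralizer_singleton_iff.mp a.2).symm)

/-- `a` has `t` among its small powers. -/
def Special (a : (Subgroup.centralizer ({t} : Set G))) : Prop := ∃ k < 8, (a : G) ^ k = t

include ht in
theorem special_iff (a : (Subgroup.centralizer ({t} : Set G))) : Special a ↔ ∃ k ∈ List.range 8, powQ (K.c a) k = tQ := by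
  simp only [Special, List.mem_range, ← c_t ht K, ← K.map_pow]
  refine exists_congr fun k => and_congr_right fun _ => ?_
  rw [K.inj.eq_iff, Subtype.ext_iff, Subgroup.coe_pow]

include ht in
theorem special_of_phi_ne {i : Fin 5} {a : (Subgroup.centralizer ({t} : Set G))} (h : zC (phi i (K.c a)) ≠ 0) : Special a :=
  (special_iff ht K a).mpr (phi_supp i _ (K.mem a) fun e => h (by rw [e, map_zero]))

include ht K in
/-- The special elements form a trivial intersection set. -/
theorem mem_of_conj_special {a b : (Subgroup.centralizer ({t} : Set G))} (ha : Special a) (hb : Special b) {y : G}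
    (h : y * a * y⁻¹ = b) : y ∈ (Subgroup.centralizer ({t} : Set G)) := by
  obtain ⟨k, hk, hka⟩ := ha
  have h1 : ((b ^ k : (Subgroup.centralizer ({t} : Set G))) : G) = y * t * y⁻¹ := by
    rw [Subgroup.coe_pow, ← h, conj_pow, hka]
  have h2 : orderOf (b ^ k : (Subgroup.centralizer ({t} : Set G))) = 2 := by
    rw [← Subgroup.orderOf_coe, h1, ← MulAut.conj_apply, MulEquiv.orderOf_eq, ht]
  have h3 := powQ_invol _ (K.mem b) ((special_iff ht K b).mp hb) k (List.mem_range.mpr hk)
    (by rw [← K.map_pow]; exact K.mem_invols h2)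
  rw [← K.map_pow, ← c_t ht K, K.inj.eq_iff, Subtype.ext_iff, h1] at h3
  exact Subgroup.mem_centralizer_singleton_iff.mpr (mul_inv_eq_iff_eq_mul.mp h3)

/-- The five class functions on the centralizer. -/
noncomputable def phiC (i : Fin 5) : (Subgroup.centralizer ({t} : Set G)) → ℂ := fun a => zC (phi i (K.c a))

section fin

variable [Fintype G]

/-- The five induced generalized characters. -/
noncomputable def Phi (i : Fin 5) : G → ℂ := Cfsg.indFun (Subgroup.centralizer ({t} : Set G)) (phiC K i)

include ht in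
theorem Phi_apply_special (i : Fin 5) {a : (Subgroup.centralizer ({t} : Set G))} (ha : Special a) : Phi K i a = phiC K i a := by
  classical
  have hterm : ∀ x : G, Cfsg.extendByZero (Subgroup.centralizer ({t} : Set G)) (phiC K i) (x⁻¹ * (a : G) * x) =
      if x ∈ (Subgroup.centralizer ({t} : Set G)) then phiC K i a else 0 := by
    intro x
    split_ifs with hx
    · rw [show x⁻¹ * (a : G) * x = ((⟨x, hx⟩⁻¹ * a * ⟨x, hx⟩ : (Subgroup.centralizer ({t} : Set G))) : G) from rfl,
        CfsgLib.Char.extendByZero_coe]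
      have h := CfsgLib.Char.isGeneralized_isClassFunction (K.isGen_phi i) a (⟨x, hx⟩ : (Subgroup.centralizer ({t} : Set G)))⁻¹
      rw [inv_inv] at h
      exact h
    · by_cases hm : x⁻¹ * (a : G) * x ∈ (Subgroup.centralizer ({t} : Set G))
      · rw [CfsgLib.Char.extendByZero_of_mem _ hm]
        by_contra hne
        refine hx (mem_of_conj_special ht K (special_of_phi_ne ht K (i := i) hne) ha (y := x) ?_)
        show x * (x⁻¹ * (a : G) * x) * x⁻¹ = a
        group
      · exact CfsgLib.Char.extendByZero_of_not_mem _ hm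
  rw [Phi, CfsgLib.Char.indFun_def, Finset.sum_congr rfl fun x _ => hterm x, ← Finset.sum_filter,
    Finset.sum_const, nsmul_eq_mul, ← Fintype.card_subtype, ← Nat.card_eq_fintype_card,
    inv_mul_cancel_left₀ (by exact_mod_cast Nat.card_pos.ne')]

theorem isGen_Phi (i : Fin 5) : Cfsg.IsGeneralizedCharacter G (Phi K i) :=
  CfsgLib.Char.isGeneralized_indFun _ (K.isGen_phi i)

include ht in
theorem classInner_Phi (i j : Fin 5) : Cfsg.classInner (Phi K i) (Phi K j) = gram i j := by
  classical
  rw [Phi, CfsgLib.Char.frobenius_reciprocity _ _ _ (CfsgLib.Char.isGeneralized_isClassFunction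
    (isGen_Phi K j)), ← K.classInner_phi i j, CfsgLib.Char.classInner_def,
    CfsgLib.Char.classInner_def]
  congr 1
  refine Finset.sum_congr rfl fun a _ => ?_
  by_cases h : zC (phi i (K.c a)) = 0
  · simp [phiC, h]
  · rw [Phi_apply_special ht K j (special_of_phi_ne ht K h)]
    rfl

theorem Phi_one (i : Fin 5) : Phi K i 1 = 0 := by
  rw [Phi, CfsgLib.Char.indFun_apply_one]
  simp [phiC, K.map_one, phi_one]

/-- Sum over a coset: the conjugates of `t`. -/
theorem card_conj_fiber [DecidableEq G] (z : G) :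
    (Finset.univ.filter fun x : G => x * t * x⁻¹ = z * t * z⁻¹).card = Nat.card (Subgroup.centralizer ({t} : Set G)) := by
  classical
  rw [Nat.card_eq_fintype_card, ← Finset.card_univ]
  refine Finset.card_bij (fun x hx => (⟨z⁻¹ * x, ?_⟩ : (Subgroup.centralizer ({t} : Set G)))) (fun _ _ => Finset.mem_univ _) ?_ ?_
  · rw [Subgroup.mem_centralizer_singleton_iff]
    simp only [Finset.mem_filter, Finset.mem_univ, true_and] at hx
    calc z⁻¹ * x * t = z⁻¹ * (x * t * x⁻¹) * x := by group
      _ = z⁻¹ * (z * t * z⁻¹) * x := by rw [hx]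
      _ = t * (z⁻¹ * x) := by group
  · intro x _ y _ h
    exact mul_left_cancel (congrArg Subtype.val h)
  · intro a _
    refine ⟨z * a, ?_, Subtype.ext (by simp)⟩
    simp only [Finset.mem_filter, Finset.mem_univ, true_and]
    have h := Subgroup.mem_centralizer_singleton_iff.mp a.2
    calc z * a * t * (z * a)⁻¹ = z * ((a : G) * t) * (a : G)⁻¹ * z⁻¹ := by group
      _ = z * (t * a) * (a : G)⁻¹ * z⁻¹ := by rw [h]
      _ = z * t * z⁻¹ := by group

theorem sum_coe {F : G → ℂ} (hF : ∀ g, g ∉ (Subgroup.centralizer ({t} : Set G)) → F g = 0) [Fintype (Subgroup.centralizer ({t} : Set G))] :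
    ∑ g, F g = ∑ a : (Subgroup.centralizer ({t} : Set G)), F a := by
  classical
  show _ = ∑ a ∈ (Finset.univ : Finset (Subgroup.centralizer ({t} : Set G))),
    F ((⟨Subtype.val, Subtype.val_injective⟩ : Function.Embedding _ G) a)
  rw [← Finset.sum_map Finset.univ _ F]
  refine (Finset.sum_subset (Finset.subset_univ _) fun g _ hg => hF g fun h => hg ?_).symm
  exact Finset.mem_map.mpr ⟨⟨g, h⟩, Finset.mem_univ _, rfl⟩

include ht in
/-- The class multiplication sum of `t` with itself. -/
theorem pair_sum (hconj : ∀ s : G, orderOf s = 2 → IsConj t s) (i : Fin 5) (hi : i < 2) :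
    ∑ y : G, Phi K i (t * (y * t * y⁻¹)) = 9216 := by
  classical
  have hcl := CfsgLib.Char.isGeneralized_isClassFunction (isGen_Phi K i)
  let F : G → ℂ := Cfsg.extendByZero (Subgroup.centralizer ({t} : Set G)) (phiC K i)
  let u : G → G := fun z => z * t * z⁻¹
  have hu : ∀ z w : G, w * u z * w⁻¹ = u (w * z) := fun z w => by simp only [u]; group
  have hH : Nat.card (Subgroup.centralizer ({t} : Set G)) = 48 := K.natCard
  -- symmetrize
  have h1 : ∀ z : G, ∑ y : G, Phi K i (t * u y) = ∑ y : G, Phi K i (u z * u y) := by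
    intro z
    refine Fintype.sum_equiv (Equiv.mulLeft z) _ _ fun y => ?_
    show Phi K i (t * u y) = Phi K i (u z * u (z * y))
    rw [← hu y z, ← hcl (t * u y) z]
    congr 1
    simp only [u]; group
  -- unfold the induction
  have h2 : ∑ z : G, ∑ y : G, Phi K i (u z * u y) =
      (Nat.card G : ℂ) * ((Nat.card (Subgroup.centralizer ({t} : Set G)) : ℂ)⁻¹ * ∑ z : G, ∑ y : G, F (u z * u y)) := by
    simp only [Phi, CfsgLib.Char.indFun_def, ← Finset.mul_sum]
    rw [mul_left_comm]
    congr 1
    rw [Finset.sum_congr rfl fun z _ => Finset.sum_comm, Finset.sum_comm,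
      Nat.card_eq_fintype_card, ← nsmul_eq_mul, ← Finset.card_univ, ← Finset.sum_const]
    refine Finset.sum_congr rfl fun w _ => ?_
    refine Fintype.sum_equiv (Equiv.mulLeft w⁻¹) _ _ fun z => ?_
    refine Fintype.sum_equiv (Equiv.mulLeft w⁻¹) _ _ fun y => ?_
    show F (w⁻¹ * (u z * u y) * w) = F (u (w⁻¹ * z) * u (w⁻¹ * y))
    rw [← hu, ← hu]
    congr 1
    group
  -- fibres
  let n : G → ℂ := fun s => if orderOf s = 2 then 48 else 0
  have h3 : ∀ Z : G → ℂ, ∑ z : G, Z (u z) = ∑ s : G, n s * Z s := by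
    intro Z
    rw [← Finset.sum_fiberwise (Finset.univ : Finset G) u fun z => Z (u z)]
    refine Finset.sum_congr rfl fun s _ => ?_
    rw [Finset.sum_congr rfl fun z hz => by rw [(Finset.mem_filter.mp hz).2], Finset.sum_const,
      nsmul_eq_mul]
    congr 1
    simp only [n]
    split_ifs with hs
    · obtain ⟨z, rfl⟩ := isConj_iff.mp (hconj s hs)
      rw [card_conj_fiber z, hH]; norm_num
    · rw [Finset.card_eq_zero.mpr (Finset.filter_eq_empty_iff.mpr fun z _ e => hs ?_), Nat.cast_zero]
      rw [← e, ← ht]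
      exact MulEquiv.orderOf_eq (MulAut.conj z) t
  -- the nonzero terms lie in the centralizer
  have h4 : ∀ r s : G, orderOf r = 2 → orderOf s = 2 → F (r * s) ≠ 0 → r ∈ (Subgroup.centralizer ({t} : Set G)) ∧ s ∈ (Subgroup.centralizer ({t} : Set G)) := by
    intro r s hr hs hne
    have hrr : r * r = 1 := by rw [← pow_two, ← hr, pow_orderOf_eq_one]
    have hss : s * s = 1 := by rw [← pow_two, ← hs, pow_orderOf_eq_one]
    have hm : r * s ∈ (Subgroup.centralizer ({t} : Set G)) := by
      by_contra h
      exact hne (CfsgLib.Char.extendByZero_of_not_mem _ h)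
    obtain ⟨k, -, hk⟩ : Special (⟨r * s, hm⟩ : (Subgroup.centralizer ({t} : Set G))) := by
      refine special_of_phi_ne ht K (i := i) fun h => hne ?_
      show Cfsg.extendByZero (Subgroup.centralizer ({t} : Set G)) (phiC K i) (r * s) = 0
      rw [CfsgLib.Char.extendByZero_of_mem _ hm]
      exact h
    have hinv : r * (r * s) * r⁻¹ = (r * s)⁻¹ := by
      rw [inv_eq_of_mul_eq_one_right hrr, ← mul_assoc, hrr, one_mul, mul_inv_rev,
        inv_eq_of_mul_eq_one_right hrr, inv_eq_of_mul_eq_one_right hss]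
    have hrt : r * t * r⁻¹ = t := by
      rw [← hk, ← conj_pow, show r * ((⟨r * s, hm⟩ : (Subgroup.centralizer ({t} : Set G))) : G) * r⁻¹ = (r * s)⁻¹ from hinv, inv_pow]
      show ((r * s) ^ k)⁻¹ = (r * s) ^ k
      rw [show (r * s) ^ k = t from hk]
      exact inv_eq_of_mul_eq_one_right (by rw [← pow_two, ← ht, pow_orderOf_eq_one])
    have hr' : r ∈ (Subgroup.centralizer ({t} : Set G)) := Subgroup.mem_centralizer_singleton_iff.mpr (mul_inv_eq_iff_eq_mul.mp hrt)
    exact ⟨hr', by simpa [hrr, ← mul_assoc] using Subgroup.mul_mem _ hr' hm⟩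
  have h5 : ∑ z : G, ∑ y : G, F (u z * u y) = 48 * 48 * 192 := by
    rw [h3 fun r => ∑ y : G, F (r * u y)]
    simp only [fun r : G => h3 fun s => F (r * s), Finset.mul_sum]
    rw [sum_coe (t := t) fun r hr => Finset.sum_eq_zero fun s _ => ?_]
    rotate_left
    · simp only [n]
      split_ifs with a b <;> try simp
      by_contra h
      exact hr (h4 r s a b h).1
    rw [Finset.sum_congr rfl fun r _ => sum_coe (t := t) fun s hs => ?_]
    rotate_left
    · simp only [n]
      split_ifs with a b <;> try simp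
      by_contra h
      exact hs (h4 r s a b h).2
    have key : ∀ r s : (Subgroup.centralizer ({t} : Set G)), n r * (n s * F ((r : G) * s)) =
        zC (if K.c r ∈ invols ∧ K.c s ∈ invols then
          48 * 48 * phi i (mulQ (K.c r) (K.c s)) else 0) := by
      intro r s
      have e : ∀ a : (Subgroup.centralizer ({t} : Set G)), (K.c a ∈ invols ↔ orderOf (a : G) = 2) := fun a =>
        ⟨fun h => (Subgroup.orderOf_coe a).trans (K.orderOf_eq_two h),
          fun h => K.mem_invols ((Subgroup.orderOf_coe a).symm.trans h)⟩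
      simp only [n, e]
      by_cases a : orderOf (r : G) = 2 <;> by_cases b : orderOf (s : G) = 2 <;>
        simp only [a, b, and_self, and_false, false_and, if_true, if_false, map_zero, zero_mul,
          mul_zero]
      rw [show (r : G) * s = ((r * s : (Subgroup.centralizer ({t} : Set G))) : G) from rfl]
      show _ * (_ * Cfsg.extendByZero (Subgroup.centralizer ({t} : Set G)) (phiC K i) _) = _
      rw [CfsgLib.Char.extendByZero_coe, phiC, K.map_mul, map_mul, map_mul, map_ofNat]
      ring
    simp only [key]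
    rw [Finset.sum_congr rfl fun r _ => K.sum_zC fun q =>
      if K.c r ∈ invols ∧ q ∈ invols then 48 * 48 * phi i (mulQ (K.c r) q) else 0]
    rw [K.sum_zC fun p => (elems.map fun q =>
      if p ∈ invols ∧ q ∈ invols then 48 * 48 * phi i (mulQ p q) else 0).sum]
    have hpairs : ∀ i : Fin 5, i < 2 → (elems.map fun p => (elems.map fun q =>
        if p ∈ invols ∧ q ∈ invols then 48 * 48 * phi i (mulQ p q) else 0).sum).sum
          = 48 * 48 * 192 := by
      decide +kernel
    rw [hpairs i hi]
    simp only [map_mul, map_ofNat]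
  have hG : (Nat.card G : ℂ) ≠ 0 := CfsgLib.Char.natCard_ne_zero
  refine mul_left_cancel₀ hG ?_
  calc (Nat.card G : ℂ) * ∑ y : G, Phi K i (t * u y)
      = ∑ _z : G, ∑ y : G, Phi K i (t * u y) := by
        rw [Finset.sum_const, nsmul_eq_mul, Finset.card_univ, Nat.card_eq_fintype_card]
    _ = ∑ z : G, ∑ y : G, Phi K i (u z * u y) := Finset.sum_congr rfl fun z _ => h1 z
    _ = _ := by rw [h2, h5, hH]; norm_num

end fin

include ht K in
/-- In a simple group all involutions are conjugate to `t`. -/
theorem isConj_t [Finite G] [IsSimpleGroup G] (s : G) (hs : orderOf s = 2) : IsConj t s := by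
  classical
  have : Fact (Nat.Prime 2) := ⟨Nat.prime_two⟩
  have hpos : ∀ a : (Subgroup.centralizer ({t} : Set G)), 0 < orderOf a := fun a => orderOf_pos a
  let P₁ : Subgroup (Subgroup.centralizer ({t} : Set G)) :=
    { carrier := {a | K.c a ∈ syl}
      one_mem' := by show K.c 1 ∈ syl; rw [K.map_one]; exact tQ_mem.2.2
      mul_mem' := fun {a b} ha hb => by
        show K.c (a * b) ∈ syl
        rw [K.map_mul]
        exact syl_closed _ ha _ hb
      inv_mem' := fun {a} ha => by
        show K.c a⁻¹ ∈ syl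
        have : ∀ n : ℕ, K.c (a ^ n) ∈ syl := fun n => by
          induction n with
          | zero => rw [pow_zero, K.map_one]; exact tQ_mem.2.2
          | succ n ih => rw [pow_succ, K.map_mul]; exact syl_closed _ ih _ ha
        rw [show a⁻¹ = a ^ (orderOf a - 1) from inv_eq_of_mul_eq_one_right (by
          rw [← pow_succ', Nat.sub_add_cancel (hpos a), pow_orderOf_eq_one])]
        exact this _ }
  have hP₁ : IsPGroup 2 P₁ := fun a => ⟨4, Subtype.ext (K.inj (by
    show K.c ((a : (Subgroup.centralizer ({t} : Set G))) ^ 2 ^ 4) = K.c 1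
    rw [K.map_pow, K.map_one]
    have h : K.c (a : (Subgroup.centralizer ({t} : Set G))) ∈ syl := a.2
    simp only [syl, List.mem_filter, Bool.and_eq_true, beq_iff_eq] at h
    exact h.2.1))⟩
  obtain ⟨S, hS⟩ := (hP₁.map (Subgroup.centralizer ({t} : Set G)).subtype).exists_le_sylow
  have hmemS : ∀ a : (Subgroup.centralizer ({t} : Set G)), K.c a ∈ syl → (a : G) ∈ (S : Subgroup G) := fun a ha =>
    hS (Subgroup.mem_map_of_mem _ ha)
  have htS : t ∈ (S : Subgroup G) := hmemS ⟨t, t_mem⟩ (by rw [c_t ht K]; exact tQ_mem.2.1)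
  -- `S` centralizes `t`
  have hSH : (S : Subgroup G) ≤ (Subgroup.centralizer ({t} : Set G)) := by
    have : Nontrivial (S : Subgroup G) :=
      ⟨⟨⟨t, htS⟩, 1, fun e => by
        have := congrArg Subtype.val e
        simp only [Subgroup.coe_one] at this
        rw [this, orderOf_one] at ht; omega⟩⟩
    have := S.isPGroup'.center_nontrivial
    obtain ⟨z, hz⟩ : ∃ z : Subgroup.center (S : Subgroup G), orderOf z = 2 := by
      refine exists_prime_orderOf_dvd_card' 2 ?_
      obtain ⟨n, hn, h⟩ := ((S.isPGroup'.to_subgroup _).nontrivial_iff_card).mp this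
      rw [h]; exact dvd_pow_self 2 hn.ne'
    have hz' : orderOf ((z : (S : Subgroup G)) : G) = 2 := by
      rw [Subgroup.orderOf_coe, Subgroup.orderOf_coe, hz]
    have hcomm : ∀ x ∈ (S : Subgroup G), x * ((z : (S : Subgroup G)) : G) =
        ((z : (S : Subgroup G)) : G) * x := fun x hx =>
      congrArg Subtype.val (Subgroup.mem_center_iff.mp z.2 ⟨x, hx⟩)
    have hzH : ((z : (S : Subgroup G)) : G) ∈ (Subgroup.centralizer ({t} : Set G)) :=
      Subgroup.mem_centralizer_singleton_iff.mpr (hcomm t htS).symm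
    have h := syl_centralizer _ (K.mem_invols (a := ⟨_, hzH⟩) (by rwa [Subgroup.orderOf_mk]))
      fun r hr => by
        obtain ⟨a, rfl⟩ := K.surj r (List.mem_filter.mp hr).1
        rw [← K.map_mul, ← K.map_mul]
        exact congrArg K.c (Subtype.ext (hcomm a (hmemS a hr)).symm)
    rw [← c_t ht K, K.inj.eq_iff, Subtype.ext_iff] at h
    intro x hx
    have := hcomm x hx
    rw [show ((z : (S : Subgroup G)) : G) = t from h] at this
    exact Subgroup.mem_centralizer_singleton_iff.mpr this
  -- the subgroup of index two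
  let δ : (S : Subgroup G) →* ZMod 3 :=
    { toFun := fun x => detQ (K.c ⟨x, hSH x.2⟩)
      map_one' := by
        show detQ (K.c 1) = 1
        rw [K.map_one]; rfl
      map_mul' := fun x y => by
        show detQ (K.c (⟨x, hSH x.2⟩ * ⟨y, hSH y.2⟩)) = _
        rw [K.map_mul]
        generalize K.c ⟨x, hSH x.2⟩ = p
        generalize K.c ⟨y, hSH y.2⟩ = q
        obtain ⟨a, b, c, d⟩ := p
        obtain ⟨a', b', c', d'⟩ := q
        simp only [detQ, mulQ]
        ring }
  let Q₀ : Subgroup G := (δ.toHomUnits.ker).map (S : Subgroup G).subtype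
  have hQi : Q₀.relIndex (S : Subgroup G) = 2 := by
    rw [Subgroup.relIndex, Subgroup.subgroupOf, Subgroup.comap_map_eq_self_of_injective
      (S : Subgroup G).subtype_injective, Subgroup.index_ker]
    obtain ⟨r, hr, hr1⟩ := syl_not_sl
    obtain ⟨a, rfl⟩ := K.surj r (List.mem_filter.mp hr).1
    have hu : Nat.card (ZMod 3)ˣ = 2 := by
      rw [Nat.card_eq_fintype_card]; rfl
    have hle : Nat.card δ.toHomUnits.range ≤ 2 := (Subgroup.card_le_card_group _).trans hu.le
    have hne : Nat.card δ.toHomUnits.range ≠ 1 := by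
      intro h
      rw [Subgroup.card_eq_one] at h
      have : δ.toHomUnits ⟨a, hmemS a hr⟩ ∈ δ.toHomUnits.range := ⟨_, rfl⟩
      rw [h, Subgroup.mem_bot, Units.ext_iff] at this
      exact hr1 this
    have := Nat.card_pos (α := δ.toHomUnits.range)
    omega
  obtain ⟨g, hg⟩ := (show ∃ g : G, g * s * g⁻¹ ∈ (S : Subgroup G) from by
    obtain ⟨T, hT⟩ := (IsPGroup.of_card (p := 2) (n := 1)
      (G := Subgroup.zpowers s) (by rw [Nat.card_zpowers, hs, pow_one])).exists_le_sylow
    obtain ⟨g, hg⟩ := MulAction.exists_smul_eq G T S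
    refine ⟨g, ?_⟩
    rw [← hg, Sylow.coe_subgroup_smul]
    exact ⟨s, hT (Subgroup.mem_zpowers s), rfl⟩)
  have hs2 : orderOf (g * s * g⁻¹) = 2 := (MulEquiv.orderOf_eq (MulAut.conj g) s).trans hs
  have hsc : IsConj (g * s * g⁻¹) s := (isConj_iff.mpr ⟨g, rfl⟩).symm
  have hend : ∀ x : G, x ∈ Q₀ → orderOf x = 2 → x = t := by
    rintro _ ⟨x, hx, rfl⟩ hx2
    have hdet : detQ (K.c ⟨x, hSH x.2⟩) = 1 := congrArg Units.val (MonoidHom.mem_ker.mp hx)
    have := sl_invol _ (K.mem_invols (a := ⟨x, hSH x.2⟩) (by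
      rw [Subgroup.orderOf_mk]; exact hx2)) hdet
    rw [← c_t ht K, K.inj.eq_iff, Subtype.ext_iff] at this
    exact this
  rcases CfsgLib.Transfer.thompson_transfer_involution S (Subgroup.map_subtype_le _) hQi
      (by rw [← hs2, pow_orderOf_eq_one]) hg with ⟨M, hM, hMi, -⟩ | ⟨w, hw⟩
  · exfalso
    have h48 := K.natCard
    have hle := Subgroup.card_le_card_group (Subgroup.centralizer ({t} : Set G))
    rcases hM.eq_bot_or_eq_top with rfl | rfl
    · rw [Subgroup.index_bot] at hMi; omega
    · rw [Subgroup.index_top] at hMi; omega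
  · have hw2 : orderOf (w * (g * s * g⁻¹) * w⁻¹) = 2 :=
      (MulEquiv.orderOf_eq (MulAut.conj w) (g * s * g⁻¹)).trans hs2
    have e := hend _ hw hw2
    exact (e ▸ (isConj_iff.mpr ⟨w, rfl⟩ : IsConj (g * s * g⁻¹) (w * (g * s * g⁻¹) * w⁻¹))).symm.trans hsc

end CfsgLib.GLTwoThree
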