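import Cfsg.Agent.Lib.GLTwoThree.Table

/-!
# Normal subgroups and elements of order three of `GL(2, 3)`
-/

set_option autoImplicit false
set_option maxRecDepth 100000

namespace CfsgLib.GLTwoThree

/-- The conjugates of an element. -/
def cls (q : Q) : List Q := elems.filter fun r => elems.any fun g => mulQ g q == mulQ r g

/-- Products of at most two members. -/
def two (L : List Q) : List Q :=
  elems.filter fun r => r == oneQ || L.contains r || L.any fun a => L.any fun b => mulQ a b == r

theorem contains_t : ∀ q ∈ elems, q ≠ oneQ → tQ ∈ two (two (two (cls q))) := by decide +kernel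

theorem full_of_det : ∀ q ∈ elems, detQ q ≠ 1 → ∀ r ∈ elems, r ∈ two (two (two (cls q))) := by
  decide +kernel

theorem det_values : ∀ q ∈ elems, detQ q = 1 ∨ detQ q = 2 := by decide +kernel

/-- The elements of order three. -/
def threes : List Q := elems.filter fun q => powQ q 3 == oneQ && q != oneQ

theorem threes_conj : ∀ q ∈ threes, ∀ r ∈ threes, ∃ g ∈ elems, mulQ g q = mulQ r g := by
  decide +kernel

theorem threes_cent : ∀ q ∈ threes, (elems.filter fun r => mulQ r q == mulQ q r).length = 6 := by
  decide +kernel

theorem threes_ne : ∃ q, q ∈ threes := by decide +kernel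

end CfsgLib.GLTwoThree
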