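import Cfsg.Agent.Lib.GLTwoThree.Local
import Cfsg.Agent.Lib.GLTwoThree.Decomp
import Cfsg.Agent.Lib.BlockB.ClassMul
import Cfsg.Agent.Lib.Char.Linear
import Mathlib.Tactic.LinearCombination

/-!
# Degrees and values of the constituents of the induced generalized characters
-/

set_option autoImplicit false
set_option linter.unusedSectionVars false

namespace CfsgLib.GLTwoThree

open scoped ComplexConjugate

universe u

variable {G : Type u} [Group G] [Fintype G] [Fintype (Cfsg.IrrCharacter G)] {t : G}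
  (ht : orderOf t = 2) (K : Coord (Subgroup.centralizer ({t} : Set G)))

theorem exists_mult (i : Fin 5) (χ : Cfsg.IrrCharacter G) :
    ∃ k : ℤ, Cfsg.classInner (Phi K i) (χ : G → ℂ) = k :=
  CfsgLib.Char.classInner_isGeneralized_int (isGen_Phi K i)
    (CfsgLib.Char.isGeneralized_of_isCharacter (CfsgLib.Char.irr_isCharacter χ.2))

/-- Multiplicity of an irreducible character in an induced generalized character. -/
noncomputable def mult (i : Fin 5) (χ : Cfsg.IrrCharacter G) : ℤ := (exists_mult K i χ).choose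

theorem mult_spec (i : Fin 5) (χ : Cfsg.IrrCharacter G) :
    Cfsg.classInner (Phi K i) (χ : G → ℂ) = (mult K i χ : ℂ) := (exists_mult K i χ).choose_spec

theorem exists_degree (χ : Cfsg.IrrCharacter G) : ∃ d : ℕ, 0 < d ∧ (χ : G → ℂ) 1 = d :=
  CfsgLib.Char.irr_apply_one_pos χ.2

/-- The degree. -/
noncomputable def degree (χ : Cfsg.IrrCharacter G) : ℤ := ((exists_degree χ).choose : ℤ)

theorem degree_pos (χ : Cfsg.IrrCharacter G) : 0 < degree χ :=
  Int.natCast_pos.mpr (exists_degree χ).choose_spec.1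

theorem degree_spec (χ : Cfsg.IrrCharacter G) : (χ : G → ℂ) 1 = (degree χ : ℂ) := by
  rw [degree, Int.cast_natCast]; exact (exists_degree χ).choose_spec.2

theorem mult_inner [Fintype (Subgroup.centralizer ({t} : Set G))] (i : Fin 5)
    (χ : Cfsg.IrrCharacter G) :
    (mult K i χ : ℂ) = (48 : ℂ)⁻¹ * ∑ a : (Subgroup.centralizer ({t} : Set G)),
      zC (phi i (K.c a)) * conj ((χ : G → ℂ) a) := by
  rw [← mult_spec, Phi, CfsgLib.Char.frobenius_reciprocity _ _ _
    (CfsgLib.Char.irr_isClassFunction χ.2), CfsgLib.Char.classInner_def, Nat.card_eq_fintype_card,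
    K.card]
  norm_num
  rfl

include ht in
/-- The value at `t` in terms of the multiplicities. -/
theorem apply_t (χ : Cfsg.IrrCharacter G) :
    (χ : G → ℂ) t = ((3 * mult K 0 χ + mult K 1 χ - 2 * mult K 4 χ + 2 * mult K 2 χ
      + 2 * mult K 3 χ : ℤ) : ℂ) := by
  classical
  have := Fintype.ofFinite (Subgroup.centralizer ({t} : Set G))
  have h : ((3 * mult K 0 χ + mult K 1 χ - 2 * mult K 4 χ + 2 * mult K 2 χ
      + 2 * mult K 3 χ : ℤ) : ℂ) = (48 : ℂ)⁻¹ * ∑ a : (Subgroup.centralizer ({t} : Set G)),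
        zC (if K.c a = tQ then 48 else 0) * conj ((χ : G → ℂ) a) := by
    push_cast
    simp only [mult_inner K, ← delta_t _ (K.mem _), map_add, map_sub, map_mul, map_ofNat,
      add_mul, sub_mul, Finset.sum_add_distrib, Finset.sum_sub_distrib, mul_assoc,
      ← Finset.mul_sum]
    ring
  rw [Finset.sum_eq_single (⟨t, t_mem⟩ : Subgroup.centralizer ({t} : Set G)) (fun a _ ha => by
      rw [if_neg fun e => ha (K.inj (e.trans (c_t ht K).symm)), map_zero, zero_mul])
    (fun h => absurd (Finset.mem_univ _) h), if_pos (c_t ht K), map_ofNat,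
    inv_mul_cancel_left₀ (by norm_num)] at h
  have h' := congrArg conj h
  rw [Complex.conj_conj, map_intCast] at h'
  exact h'.symm

include ht in
/-- The degree congruence. -/
theorem degree_congr (hconj : ∀ s : G, orderOf s = 2 → IsConj t s) (χ : Cfsg.IrrCharacter G) :
    ∃ m : ℤ, 16 * m = degree χ + (mult K 0 χ + 3 * mult K 1 χ + 10 * mult K 4 χ + 2 * mult K 2 χ
      + 2 * mult K 3 χ) + 4 * (3 * mult K 0 χ + mult K 1 χ - 2 * mult K 4 χ + 2 * mult K 2 χ
      + 2 * mult K 3 χ) := by
  classical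
  have := Fintype.ofFinite (Subgroup.centralizer ({t} : Set G))
  obtain ⟨m, hm⟩ := CfsgLib.Char.classInner_isGeneralized_int K.isGen_f
    (CfsgLib.Char.isGeneralized_of_isCharacter
      (CfsgLib.Char.isCharacter_restrict (CfsgLib.Char.irr_isCharacter χ.2)
        (Subgroup.centralizer ({t} : Set G))))
  refine ⟨m, Int.cast_injective (α := ℂ) ?_⟩
  push_cast
  rw [← hm, CfsgLib.Char.classInner_def, Nat.card_eq_fintype_card, K.card]
  simp only [mul_left_comm (16 : ℂ), Finset.mul_sum]
  rw [Finset.sum_congr rfl fun a _ => show _ = (48 : ℂ)⁻¹ * (zC (16 * (1 + x3 (K.c a))) *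
      conj ((χ : G → ℂ) a)) by rw [map_mul, map_ofNat]; push_cast; ring]
  simp only [congr_fn _ (K.mem _), map_add, map_mul, map_ofNat, add_mul, mul_add,
    Finset.sum_add_distrib, mul_assoc, ← Finset.mul_sum, mult_inner K]
  have e1 : ∑ a : (Subgroup.centralizer ({t} : Set G)),
      zC (if K.c a = oneQ then 48 else 0) * conj ((χ : G → ℂ) a) = 48 * (degree χ : ℂ) := by
    rw [Finset.sum_eq_single (1 : Subgroup.centralizer ({t} : Set G)) (fun a _ ha => by
        rw [if_neg fun e => ha (K.inj (e.trans K.map_one.symm)), map_zero, zero_mul])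
      (fun h => absurd (Finset.mem_univ _) h), if_pos K.map_one, map_ofNat, OneMemClass.coe_one,
      degree_spec, map_intCast]
  have e2 : ∑ a : (Subgroup.centralizer ({t} : Set G)),
      zC (if K.c a ∈ invols ∧ K.c a ≠ tQ then 16 else 0) * conj ((χ : G → ℂ) a) =
        192 * ((3 * mult K 0 χ + mult K 1 χ - 2 * mult K 4 χ + 2 * mult K 2 χ
      + 2 * mult K 3 χ : ℤ) : ℂ) := by
    have hval : ∀ a : (Subgroup.centralizer ({t} : Set G)),
        zC (if K.c a ∈ invols ∧ K.c a ≠ tQ then 16 else 0) * conj ((χ : G → ℂ) a) =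
        zC (if K.c a ∈ invols ∧ K.c a ≠ tQ then 16 else 0) * conj ((χ : G → ℂ) t) := fun a => by
      split_ifs with h
      · rw [CfsgLib.Char.isClassFunction_isConj (CfsgLib.Char.irr_isClassFunction χ.2)
          (hconj a ((Subgroup.orderOf_coe a).trans (K.orderOf_eq_two h.1)))]
      · simp
    have hsum : (elems.map fun q => if q ∈ invols ∧ q ≠ tQ then (16 : Zs) else 0).sum = 192 := by
      decide +kernel
    rw [Finset.sum_congr rfl fun a _ => hval a, ← Finset.sum_mul,
      K.sum_zC fun q => if q ∈ invols ∧ q ≠ tQ then (16 : Zs) else 0, hsum, map_ofNat, apply_t ht K,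
      map_intCast]
  rw [e1, e2]
  push_cast [mult_inner K]
  ring

include ht in
/-- The equation from multiplying the class of `t` with itself. -/
theorem pair_equation (hconj : ∀ s : G, orderOf s = 2 → IsConj t s) (i : Fin 5) (hi : i < 2) :
    (Nat.card G : ℂ) * ∑ χ : Cfsg.IrrCharacter G,
      (mult K i χ : ℂ) * ((χ : G → ℂ) t * (χ : G → ℂ) t / (χ : G → ℂ) 1) = 9216 := by
  rw [← pair_sum ht K hconj i hi, CfsgLib.BlockB.sum_classFun_mul_conj
    (CfsgLib.Char.isGeneralized_isClassFunction (isGen_Phi K i)) t t]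
  congr 1
  refine Finset.sum_congr rfl fun χ _ => ?_
  rw [mult_spec]
  ring

/-- The multiplicities satisfy the combinatorial constraints. -/
theorem exists_multData (hgram : ∀ i j, Cfsg.classInner (Phi K i) (Phi K j) = gram i j) :
    ∃ A : MultData (Cfsg.IrrCharacter G), A.k = mult K ∧ A.d = degree ∧
      (A.one : G → ℂ) = fun _ => 1 := by
  classical
  have := Fintype.ofFinite (Subgroup.centralizer ({t} : Set G))
  refine ⟨⟨mult K, ⟨fun _ => 1, CfsgLib.Char.isIrrCharacter_one⟩, degree, degree_pos, ?_, ?_, ?_, ?_⟩,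
    rfl, rfl, rfl⟩
  · exact Int.cast_injective (α := ℂ) (by rw [← degree_spec, Int.cast_one])
  · intro i j
    refine Int.cast_injective (α := ℂ) ?_
    rw [← hgram, CfsgLib.Char.classInner_eq_sum_mul
      (CfsgLib.Char.isGeneralized_isClassFunction (isGen_Phi K i))]
    simp [mult_spec]
  · intro i
    refine Int.cast_injective (α := ℂ) ?_
    rw [← mult_spec, Phi, CfsgLib.Char.frobenius_reciprocity _ _ _
      (CfsgLib.Char.irr_isClassFunction CfsgLib.Char.isIrrCharacter_one), ← K.classInner_phi_one i]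
    rfl
  · intro i
    refine Int.cast_injective (α := ℂ) ?_
    rw [Int.cast_zero, ← Phi_one K i, CfsgLib.Char.classFunction_apply_eq_sum
      (CfsgLib.Char.isGeneralized_isClassFunction (isGen_Phi K i)) (1 : G)]
    simp [mult_spec, degree_spec]

end CfsgLib.GLTwoThree
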