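import Cfsg.Agent.Lib.GLTwoThree.NormalTable
import Cfsg.Agent.Lib.GLTwoThree.Values
import Mathlib.GroupTheory.FixedPointFree
import Cfsg.Prelude.Def_Transfer

/-!
# A group with `O²(G) = G` and an involution centraliser `GL(2, 3)` is simple
-/

set_option autoImplicit false
set_option linter.unusedSectionVars false

namespace CfsgLib.GLTwoThree

universe u

variable {G : Type u} [Group G] [Finite G] {t : G} (ht : orderOf t = 2)
  (K : Coord (Subgroup.centralizer ({t} : Set G)))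

local notation "Cen[" x "]" => Subgroup.centralizer ({x} : Set _)

theorem two_mem {X : Subgroup Cen[t]} {L : List Q} (hL : ∀ r ∈ L, ∃ a ∈ X, K.c a = r) :
    ∀ r ∈ two L, ∃ a ∈ X, K.c a = r := by
  intro r hr
  simp only [two, List.mem_filter, Bool.or_eq_true, beq_iff_eq, List.contains_iff_mem,
    List.any_eq_true] at hr
  rcases hr.2 with (rfl | h) | ⟨p, hp, q, hq, rfl⟩
  · exact ⟨1, X.one_mem, K.map_one⟩
  · exact hL r h
  · obtain ⟨a, ha, rfl⟩ := hL p hp
    obtain ⟨b, hb, rfl⟩ := hL q hq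
    exact ⟨a * b, X.mul_mem ha hb, K.map_mul a b⟩

theorem cls_mem {X : Subgroup Cen[t]} (hX : X.Normal) {a : Cen[t]} (ha : a ∈ X) :
    ∀ r ∈ cls (K.c a), ∃ b ∈ X, K.c b = r := by
  intro r hr
  simp only [cls, List.mem_filter, List.any_eq_true, beq_iff_eq] at hr
  obtain ⟨hr1, g, hg, e⟩ := hr
  obtain ⟨g, rfl⟩ := K.surj g hg
  obtain ⟨b, rfl⟩ := K.surj r hr1
  rw [← K.map_mul, ← K.map_mul, K.inj.eq_iff] at e
  refine ⟨b, ?_, rfl⟩
  rw [show b = g * a * g⁻¹ by rw [e]; group]
  exact hX.conj_mem a ha g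

include ht K in
theorem t_mem_normal {X : Subgroup Cen[t]} (hX : X.Normal) (h : X ≠ ⊥) : (⟨t, t_mem⟩ : Cen[t]) ∈ X := by
  obtain ⟨a, ha, ha1⟩ := X.bot_or_exists_ne_one.resolve_left h
  obtain ⟨b, hb, e⟩ := two_mem K (two_mem K (two_mem K (cls_mem K hX ha))) tQ
    (contains_t _ (K.mem a) fun e => ha1 (K.inj (e.trans K.map_one.symm)))
  rw [← c_t ht K, K.inj.eq_iff] at e
  exact e ▸ hb

theorem normal_full {X : Subgroup Cen[t]} (hX : X.Normal) {a : Cen[t]} (ha : a ∈ X)
    (hdet : detQ (K.c a) ≠ 1) : X = ⊤ := by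
  refine eq_top_iff.2 fun b _ => ?_
  obtain ⟨b', hb', e⟩ := two_mem K (two_mem K (two_mem K (cls_mem K hX ha))) (K.c b)
    (full_of_det _ (K.mem a) hdet _ (K.mem b))
  exact K.inj e ▸ hb'

/-- The determinant. -/
def detHom : Cen[t] →* ZMod 3 where
  toFun a := detQ (K.c a)
  map_one' := by rw [K.map_one]; rfl
  map_mul' a b := by
    rw [K.map_mul]
    generalize K.c a = p
    generalize K.c b = q
    obtain ⟨a, b, c, d⟩ := p
    obtain ⟨a', b', c', d'⟩ := q
    simp only [detQ, mulQ]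
    ring

include K in
/-- A normal subgroup `D` with `G = Cen[t] D` and `Cen[t] ∩ D` of determinant one contradicts `O²(G) = G`. -/
theorem false_of_complement (hO : Cfsg.pResidual 2 G = ⊤) {D : Subgroup G} [D.Normal]
    (htop : ∀ g : G, ∃ c ∈ Cen[t], c⁻¹ * g ∈ D) (hdet : ∀ a : Cen[t], (a : G) ∈ D → detQ (K.c a) = 1) :
    False := by
  let ψ : Cen[t] →* G ⧸ D := (QuotientGroup.mk' D).comp (Subgroup.centralizer ({t} : Set G)).subtype
  have hψ : Function.Surjective ψ := by
    intro y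
    obtain ⟨g, rfl⟩ := QuotientGroup.mk'_surjective D y
    obtain ⟨c, hc, hcg⟩ := htop g
    exact ⟨⟨c, hc⟩, (QuotientGroup.eq.2 hcg)⟩
  have hker : ψ.ker ≤ (detHom K).toHomUnits.ker := by
    intro a ha
    rw [MonoidHom.mem_ker] at ha ⊢
    refine Units.ext ?_
    exact hdet a ((QuotientGroup.eq_one_iff _).1 ha)
  let χ : G →* (ZMod 3)ˣ := (ψ.liftOfSurjective hψ ⟨_, hker⟩).comp (QuotientGroup.mk' D)
  have hχ : ∀ a : Cen[t], χ a = (detHom K).toHomUnits a :=
    fun a => MonoidHom.liftOfRightInverse_comp_apply ψ _ (Function.rightInverse_surjInv hψ) ⟨_, hker⟩ a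
  have htriv : χ.ker = ⊤ := by
    rw [eq_top_iff, ← hO, Cfsg.pResidual, Subgroup.closure_le]
    intro g hg
    rw [SetLike.mem_coe, MonoidHom.mem_ker, ← orderOf_eq_one_iff]
    have h2 : orderOf (χ g) ∣ 2 :=
      (orderOf_dvd_natCard (χ g)).trans (dvd_of_eq (by rw [Nat.card_eq_fintype_card]; rfl))
    exact Nat.eq_one_of_dvd_coprimes hg (orderOf_map_dvd χ g) h2
  obtain ⟨r, hr, hr1⟩ := syl_not_sl
  obtain ⟨a, rfl⟩ := K.surj r (List.mem_filter.mp hr).1
  have h := hχ a
  rw [MonoidHom.mem_ker.1 (htriv ▸ Subgroup.mem_top (a : G)), Units.ext_iff] at h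
  exact hr1 h.symm

include ht K in
/-- A Sylow 2-subgroup inside `Cen[t]` in which `t` is the only central involution. -/
theorem exists_syl : ∃ S : Sylow 2 G, (S : Subgroup G) ≤ Cen[t] ∧ t ∈ (S : Subgroup G) ∧
    ∀ z ∈ (S : Subgroup G), orderOf z = 2 → (∀ x ∈ (S : Subgroup G), x * z = z * x) → z = t := by
  classical
  have : Fact (Nat.Prime 2) := ⟨Nat.prime_two⟩
  let P₁ : Subgroup Cen[t] :=
    { carrier := {a | K.c a ∈ syl}
      one_mem' := by show K.c 1 ∈ syl; rw [K.map_one]; exact tQ_mem.2.2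
      mul_mem' := fun {a b} ha hb => by
        show K.c (a * b) ∈ syl
        rw [K.map_mul]
        exact syl_closed _ ha _ hb
      inv_mem' := fun {a} ha => by
        show K.c a⁻¹ ∈ syl
        have : ∀ n : ℕ, K.c (a ^ n) ∈ syl := fun n => by
          induction n with
          | zero => rw [pow_zero, K.map_one]; exact tQ_mem.2.2
          | succ n ih => rw [pow_succ, K.map_mul]; exact syl_closed _ ih _ ha
        rw [show a⁻¹ = a ^ (orderOf a - 1) from inv_eq_of_mul_eq_one_right (by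
          rw [← pow_succ', Nat.sub_add_cancel (orderOf_pos a), pow_orderOf_eq_one])]
        exact this _ }
  have hP₁ : IsPGroup 2 P₁ := fun a => ⟨4, Subtype.ext (K.inj (by
    show K.c ((a : Cen[t]) ^ 2 ^ 4) = K.c 1
    rw [K.map_pow, K.map_one]
    have h : K.c (a : Cen[t]) ∈ syl := a.2
    simp only [syl, List.mem_filter, Bool.and_eq_true, beq_iff_eq] at h
    exact h.2.1))⟩
  obtain ⟨S, hS⟩ := (hP₁.map (Subgroup.centralizer ({t} : Set G)).subtype).exists_le_sylow
  have hmemS : ∀ a : Cen[t], K.c a ∈ syl → (a : G) ∈ (S : Subgroup G) := fun a ha =>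
    hS (Subgroup.mem_map_of_mem _ ha)
  have htS : t ∈ (S : Subgroup G) := hmemS ⟨t, t_mem⟩ (by rw [c_t ht K]; exact tQ_mem.2.1)
  have hkey : ∀ z ∈ (S : Subgroup G), orderOf z = 2 →
      (∀ x ∈ (S : Subgroup G), x * z = z * x) → z = t := by
    intro z _ hz hcomm
    have hzH : z ∈ Cen[t] := Subgroup.mem_centralizer_singleton_iff.mpr (hcomm t htS).symm
    have h := syl_centralizer _ (K.mem_invols (a := ⟨_, hzH⟩) (by rwa [Subgroup.orderOf_mk]))
      fun r hr => by
        obtain ⟨a, rfl⟩ := K.surj r (List.mem_filter.mp hr).1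
        rw [← K.map_mul, ← K.map_mul]
        exact congrArg K.c (Subtype.ext (hcomm a (hmemS a hr)).symm)
    rw [← c_t ht K, K.inj.eq_iff, Subtype.ext_iff] at h
    exact h
  refine ⟨S, fun x hx => ?_, htS, hkey⟩
  have : Nontrivial (S : Subgroup G) :=
    ⟨⟨⟨t, htS⟩, 1, fun e => by
      have := congrArg Subtype.val e
      simp only [Subgroup.coe_one] at this
      rw [this, orderOf_one] at ht; omega⟩⟩
  have := S.isPGroup'.center_nontrivial
  obtain ⟨z, hz⟩ : ∃ z : Subgroup.center (S : Subgroup G), orderOf z = 2 := by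
    refine exists_prime_orderOf_dvd_card' 2 ?_
    obtain ⟨n, hn, h⟩ := ((S.isPGroup'.to_subgroup _).nontrivial_iff_card).mp this
    rw [h]; exact dvd_pow_self 2 hn.ne'
  have hcomm : ∀ y ∈ (S : Subgroup G), y * ((z : (S : Subgroup G)) : G) =
      ((z : (S : Subgroup G)) : G) * y := fun y hy =>
    congrArg Subtype.val (Subgroup.mem_center_iff.mp z.2 ⟨y, hy⟩)
  have e := hkey _ (z : (S : Subgroup G)).2 (by rw [Subgroup.orderOf_coe, Subgroup.orderOf_coe, hz])
    hcomm
  have := hcomm x hx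
  rw [e] at this
  exact Subgroup.mem_centralizer_singleton_iff.mpr this

include ht K in
theorem noncomm : ¬ IsMulCommutative G := by
  intro h
  obtain ⟨q, hq, r, hr, hqr⟩ := elems_noncomm
  obtain ⟨a, rfl⟩ := K.surj q hq
  obtain ⟨b, rfl⟩ := K.surj r hr
  apply hqr
  rw [← K.map_mul, ← K.map_mul]
  exact congrArg K.c (Subtype.ext (h.is_comm.comm (a : G) b))

include ht K in
/-- A normal subgroup meeting `Cen[t]` trivially is trivial. -/
theorem eq_bot_of_inf (hO : Cfsg.pResidual 2 G = ⊤) {N : Subgroup G} [hN : N.Normal]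
    (hC : ∀ x ∈ N, x ∈ Cen[t] → x = 1) : N = ⊥ := by
  have ht2 : t * t = 1 := by rw [← pow_two, ← ht, pow_orderOf_eq_one]
  have hinv : ∀ {M : Subgroup G}, M.Normal → (∀ x ∈ M, x ∈ Cen[t] → x = 1) →
      ∀ x ∈ M, t * x * t⁻¹ = x⁻¹ := by
    intro M hM hMC x hx
    have hφ : MonoidHom.FixedPointFree (MulAut.conjNormal t : MulAut M) := by
      intro y hy
      refine Subtype.ext (hMC _ y.2 (Subgroup.mem_centralizer_singleton_iff.mpr ?_))
      have := congrArg Subtype.val hy
      rw [MulAut.conjNormal_apply] at this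
      calc (y : G) * t = t * y * t⁻¹ * t := by rw [this]
        _ = t * y := by group
    have hφ2 : Function.Involutive (MulAut.conjNormal t : MulAut M) := fun y => by
      refine Subtype.ext ?_
      rw [MulAut.conjNormal_apply, MulAut.conjNormal_apply,
        show t⁻¹ = t from inv_eq_of_mul_eq_one_right ht2]
      calc t * (t * y * t) * t = t * t * y * (t * t) := by group
        _ = y := by rw [ht2, one_mul, mul_one]
    have h := congrFun (hφ.coe_eq_inv_of_involutive hφ2) ⟨x, hx⟩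
    have := congrArg Subtype.val h
    rwa [MulAut.conjNormal_apply] at this
  have hodd : ∀ {M : Subgroup G}, M.Normal → (∀ x ∈ M, x ∈ Cen[t] → x = 1) →
      ∀ x ∈ M, Odd (orderOf x) := by
    intro M hM hMC x hx
    rw [← Nat.not_even_iff_odd, even_iff_two_dvd]
    intro h
    obtain ⟨m, hm⟩ := h
    have hpos := orderOf_pos x
    have hy : x ^ m ∈ M := M.pow_mem hx m
    have hy2 : x ^ m * x ^ m = 1 := by rw [← pow_add, ← two_mul, ← hm, pow_orderOf_eq_one]
    have hyC : x ^ m ∈ Cen[t] := Subgroup.mem_centralizer_singleton_iff.mpr (by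
      have h1 := hinv hM hMC _ hy
      rw [inv_eq_of_mul_eq_one_right hy2] at h1
      calc x ^ m * t = t * x ^ m * t⁻¹ * t := by rw [h1]
        _ = t * x ^ m := by group)
    exact pow_ne_one_of_lt_orderOf (by omega) (by omega) (hMC _ hy hyC)
  by_contra hne
  obtain ⟨D, eD⟩ : ∃ D, D = Subgroup.centralizer (N : Set G) := ⟨_, rfl⟩
  have hD : D.Normal := by rw [eD]; infer_instance
  have hcomm : ∀ g : G, g * t * g⁻¹ * t⁻¹ ∈ D := by
    intro g
    rw [eD, Subgroup.mem_centralizer_iff]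
    intro x hx
    have h1 := hinv hN hC _ hx
    have h2 := hinv hN hC _ (hN.conj_mem x hx g⁻¹)
    rw [inv_inv] at h2
    calc x * (g * t * g⁻¹ * t⁻¹) = g * t * g⁻¹ * t⁻¹ * (t * (g * (t⁻¹ * (g⁻¹ * x * g) * t) * g⁻¹) * t⁻¹) := by
          group
      _ = g * t * g⁻¹ * t⁻¹ * x := by
          have h3 : t⁻¹ * (g⁻¹ * x * g) * t = (g⁻¹ * x * g)⁻¹ := by
            rw [show t⁻¹ = t from inv_eq_of_mul_eq_one_right ht2]
            nth_rewrite 2 [show t = t⁻¹ from (inv_eq_of_mul_eq_one_right ht2).symm]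
            exact h2
          rw [h3, show g * (g⁻¹ * x * g)⁻¹ * g⁻¹ = x⁻¹ by group,
            hinv hN hC _ (N.inv_mem hx), inv_inv]
  have hDC : ∀ x ∈ D, x ∈ Cen[t] → x = 1 := by
    intro x hx hxC
    by_contra hx1
    have hnb : D.subgroupOf Cen[t] ≠ ⊥ := fun h => hx1 (by
      have hm : (⟨x, hxC⟩ : Cen[t]) ∈ D.subgroupOf Cen[t] := hx
      rw [h, Subgroup.mem_bot] at hm
      exact congrArg Subtype.val hm)
    have h1 : t ∈ D := t_mem_normal ht K (hD.subgroupOf _) hnb
    refine hne ((Subgroup.eq_bot_iff_forall _).2 fun y hy => hC y hy ?_)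
    rw [eD, Subgroup.mem_centralizer_iff] at h1
    exact Subgroup.mem_centralizer_singleton_iff.mpr (h1 y hy)
  refine false_of_complement K hO (D := D) (fun g => ?_) fun a ha => ?_
  · obtain ⟨d, hd⟩ : ∃ d, d = g * t * g⁻¹ * t⁻¹ := ⟨_, rfl⟩
    have hdD : d ∈ D := hd ▸ hcomm g
    obtain ⟨m, hm⟩ := hodd hD hDC d hdD
    obtain ⟨e, he⟩ : ∃ e, e = d ^ (m + 1) := ⟨_, rfl⟩
    have hee : e * e = d := by
      rw [he, ← pow_add, show m + 1 + (m + 1) = orderOf d + 1 by omega, pow_succ,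
        pow_orderOf_eq_one, one_mul]
    have heD : e ∈ D := he ▸ D.pow_mem hdD _
    have hte := hinv hD hDC e heD
    refine ⟨e⁻¹ * g, Subgroup.mem_centralizer_singleton_iff.mpr ?_, ?_⟩
    · calc e⁻¹ * g * t = e⁻¹ * (g * t * g⁻¹ * t⁻¹) * t * g := by group
        _ = e * t * g := by rw [← hd, ← hee]; group
        _ = t * (t * e * t⁻¹) * g := by
          rw [show t * (t * e * t⁻¹) = t * t * e * t⁻¹ by group, ht2, one_mul,
            inv_eq_of_mul_eq_one_right ht2]
        _ = t * (e⁻¹ * g) := by rw [hte, mul_assoc]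
    · rw [show (e⁻¹ * g)⁻¹ * g = g⁻¹ * e * g by group]
      have := hD.conj_mem e heD g⁻¹
      rwa [inv_inv] at this
  · rw [show a = 1 from Subtype.ext (hDC _ ha a.2), K.map_one]
    rfl

include ht K in
theorem isSimple (hO : Cfsg.pResidual 2 G = ⊤) : IsSimpleGroup G := by
  classical
  have : Fact (Nat.Prime 2) := ⟨Nat.prime_two⟩
  have : Nontrivial G := ⟨⟨t, 1, fun e => by rw [e, orderOf_one] at ht; omega⟩⟩
  refine ⟨fun N hN => ?_⟩
  by_cases hNC : ∀ x ∈ N, x ∈ Cen[t] → x = 1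
  · exact Or.inl (eq_bot_of_inf ht K hO hNC)
  right
  push Not at hNC
  obtain ⟨x, hxN, hxC, hx1⟩ := hNC
  have htN : t ∈ N := t_mem_normal ht K (hN.subgroupOf _) fun h => hx1 (by
    have hm : (⟨x, hxC⟩ : Cen[t]) ∈ N.subgroupOf Cen[t] := hxN
    rw [h, Subgroup.mem_bot] at hm
    exact congrArg Subtype.val hm)
  obtain ⟨S, hSC, htS, hZ⟩ := exists_syl ht K
  obtain ⟨P, hP⟩ := ((S.isPGroup'.to_le inf_le_left : IsPGroup 2 ↥((S : Subgroup G) ⊓ N)).comap_of_injective
    N.subtype N.subtype_injective).exists_le_sylow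
  obtain ⟨Q, hQ⟩ := Sylow.exists_comap_subtype_eq P
  have hPmap : (P : Subgroup N).map N.subtype = (S : Subgroup G) ⊓ N := by
    refine (Subgroup.eq_of_le_of_card_ge ?_ ?_).symm
    · intro y hy
      exact ⟨⟨y, hy.2⟩, hP hy, rfl⟩
    obtain ⟨g, hg⟩ := MulAction.exists_smul_eq G S Q
    rw [← hQ, Subgroup.map_comap_eq, Subgroup.range_subtype, ← hg, Sylow.coe_subgroup_smul]
    refine le_of_eq (Nat.card_congr ?_)
    refine { toFun := fun y => ⟨g⁻¹ * y * g, ?_, ?_⟩, invFun := fun y => ⟨g * y * g⁻¹, ?_, ?_⟩,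
             left_inv := fun y => Subtype.ext (by group), right_inv := fun y => Subtype.ext (by group) }
    · obtain ⟨w, hw, e⟩ := y.2.2
      rw [← e]
      simpa [MulAut.smul_def, MulAut.conj_apply, mul_assoc] using hw
    · simpa using hN.conj_mem _ y.2.1 g⁻¹
    · exact hN.conj_mem _ y.2.2 g
    · exact ⟨_, y.2.1, rfl⟩
  have htop := Sylow.normalizer_sup_eq_top P
  rw [hPmap] at htop
  have hnorm : Subgroup.normalizer (((S : Subgroup G) ⊓ N : Subgroup G) : Set G) ≤ Cen[t] := by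
    intro y hy
    rw [Subgroup.mem_centralizer_singleton_iff]
    suffices h : y * t * y⁻¹ = t by
      calc y * t = y * t * y⁻¹ * y := by group
        _ = t * y := by rw [h]
    have hm : y * t * y⁻¹ ∈ (S : Subgroup G) ⊓ N :=
      (Subgroup.mem_normalizer_iff.1 hy t).1 ⟨htS, htN⟩
    have ho : orderOf (y * t * y⁻¹) = 2 :=
      ((MulAut.conj y).orderOf_eq t).trans ht
    by_cases hfull : ∀ a : Cen[t], (a : G) ∈ N
    · refine hZ _ hm.1 ho fun z hz => ?_
      have hz' : y⁻¹ * z * y ∈ Cen[t] := by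
        refine hSC ?_
        have := (Subgroup.mem_normalizer_iff.1 (inv_mem hy) z).1 ⟨hz, hfull ⟨z, hSC hz⟩⟩
        rw [inv_inv] at this
        exact this.1
      rw [Subgroup.mem_centralizer_singleton_iff] at hz'
      calc z * (y * t * y⁻¹) = y * (y⁻¹ * z * y * t) * y⁻¹ := by group
        _ = y * (t * (y⁻¹ * z * y)) * y⁻¹ := by rw [hz']
        _ = y * t * y⁻¹ * z := by group
    · push Not at hfull
      obtain ⟨a, ha⟩ := hfull
      have hdet : detQ (K.c ⟨_, hSC hm.1⟩) = 1 := by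
        by_contra hne
        have := normal_full K (hN.subgroupOf _) (a := ⟨_, hSC hm.1⟩) hm.2 hne
        exact ha (show a ∈ N.subgroupOf Cen[t] by rw [this]; trivial)
      have := sl_invol _ (K.mem_invols (a := ⟨_, hSC hm.1⟩) (by
        rw [Subgroup.orderOf_mk]; exact ho)) hdet
      rw [← c_t ht K, K.inj.eq_iff, Subtype.ext_iff] at this
      exact this
  have hall : ∀ g : G, ∃ c ∈ Cen[t], c⁻¹ * g ∈ N := by
    intro g
    have hg : g ∈ Cen[t] ⊔ N := sup_le_sup_right hnorm N (htop ▸ Subgroup.mem_top g)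
    rw [Subgroup.mem_sup_of_normal_right] at hg
    obtain ⟨c, hc, n, hn, e⟩ := hg
    exact ⟨c, hc, by rw [← e, inv_mul_cancel_left]; exact hn⟩
  by_cases hfull : ∀ a : Cen[t], (a : G) ∈ N
  · refine eq_top_iff.2 fun g _ => ?_
    obtain ⟨c, hc, h⟩ := hall g
    simpa using N.mul_mem (hfull ⟨c, hc⟩) h
  · exfalso
    push Not at hfull
    obtain ⟨a, ha⟩ := hfull
    refine false_of_complement K hO hall fun b hb => ?_
    by_contra hne
    exact ha (show a ∈ N.subgroupOf Cen[t] by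
      rw [normal_full K (hN.subgroupOf _) (a := b) hb hne]; trivial)

end CfsgLib.GLTwoThree
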