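import Cfsg.Prelude.Def_Characters
import Mathlib.NumberTheory.Zsqrtd.Basic
import Mathlib.Data.ZMod.Basic

/-!
# The two-dimensional representation of `GL(2, 3)` over `ℤ[√-2]`, as a table
-/

set_option autoImplicit false

namespace CfsgLib.GLTwoThree

/-- Entries of a `2 × 2` matrix over `ZMod 3`. -/
abbrev Q : Type := ZMod 3 × ZMod 3 × ZMod 3 × ZMod 3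

/-- The ring `ℤ[√-2]`. -/
abbrev Zs : Type := Zsqrtd (-2)

/-- Entries of a `2 × 2` matrix over `ℤ[√-2]`. -/
abbrev L : Type := Zs × Zs × Zs × Zs

def mulQ : Q → Q → Q
  | (a, b, c, d), (a', b', c', d') =>
    (a * a' + b * c', a * b' + b * d', c * a' + d * c', c * b' + d * d')

def mulL : L → L → L
  | (a, b, c, d), (a', b', c', d') =>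
    (a * a' + b * c', a * b' + b * d', c * a' + d * c', c * b' + d * d')

def oneQ : Q := (1, 0, 0, 1)

def tQ : Q := (2, 0, 0, 2)

def detQ : Q → ZMod 3
  | (a, b, c, d) => a * d - b * c

def powQ (q : Q) : ℕ → Q
  | 0 => oneQ
  | n + 1 => mulQ (powQ q n) q

/-- All quadruples. -/
def allQ : List Q :=
  ([0, 1, 2] : List (ZMod 3)).flatMap fun a => ([0, 1, 2] : List (ZMod 3)).flatMap fun b =>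
    ([0, 1, 2] : List (ZMod 3)).flatMap fun c => ([0, 1, 2] : List (ZMod 3)).map fun d => (a, b, c, d)

/-- The invertible ones. -/
def elems : List Q := allQ.filter fun q => detQ q != 0

def invols : List Q := elems.filter fun q => mulQ q q == oneQ && q != oneQ

def table : List L :=
  [(⟨0, 0⟩, ⟨0, 0⟩, ⟨0, 0⟩, ⟨0, 0⟩),
   (⟨0, 0⟩, ⟨0, 0⟩, ⟨0, 0⟩, ⟨0, 0⟩),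
   (⟨0, 0⟩, ⟨0, 0⟩, ⟨0, 0⟩, ⟨0, 0⟩),
   (⟨0, 0⟩, ⟨0, 0⟩, ⟨0, 0⟩, ⟨0, 0⟩),
   (⟨0, 0⟩, ⟨0, 0⟩, ⟨0, 0⟩, ⟨0, 0⟩),
   (⟨0, 0⟩, ⟨0, 0⟩, ⟨0, 0⟩, ⟨0, 0⟩),
   (⟨0, 0⟩, ⟨0, 0⟩, ⟨0, 0⟩, ⟨0, 0⟩),
   (⟨0, 0⟩, ⟨0, 0⟩, ⟨0, 0⟩, ⟨0, 0⟩),
   (⟨0, 0⟩, ⟨0, 0⟩, ⟨0, 0⟩, ⟨0, 0⟩),
   (⟨0, 0⟩, ⟨0, 0⟩, ⟨0, 0⟩, ⟨0, 0⟩),
   (⟨0, 0⟩, ⟨0, 0⟩, ⟨0, 0⟩, ⟨0, 0⟩),
   (⟨0, 0⟩, ⟨0, 0⟩, ⟨0, 0⟩, ⟨0, 0⟩),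
   (⟨-1, -1⟩, ⟨-2, 0⟩, ⟨-1, 1⟩, ⟨1, 1⟩),
   (⟨0, 0⟩, ⟨1, 0⟩, ⟨1, 0⟩, ⟨0, -1⟩),
   (⟨1, 1⟩, ⟨1, 0⟩, ⟨0, -1⟩, ⟨-1, 0⟩),
   (⟨-1, -1⟩, ⟨-2, 0⟩, ⟨0, 1⟩, ⟨1, 1⟩),
   (⟨1, 1⟩, ⟨1, 0⟩, ⟨1, -1⟩, ⟨0, -1⟩),
   (⟨0, 0⟩, ⟨1, 0⟩, ⟨-1, 0⟩, ⟨-1, 0⟩),
   (⟨0, 0⟩, ⟨0, 0⟩, ⟨0, 0⟩, ⟨0, 0⟩),
   (⟨0, 0⟩, ⟨0, 0⟩, ⟨0, 0⟩, ⟨0, 0⟩),
   (⟨0, 0⟩, ⟨0, 0⟩, ⟨0, 0⟩, ⟨0, 0⟩),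
   (⟨1, 1⟩, ⟨2, 0⟩, ⟨0, -1⟩, ⟨-1, -1⟩),
   (⟨0, 0⟩, ⟨-1, 0⟩, ⟨1, 0⟩, ⟨1, 0⟩),
   (⟨-1, -1⟩, ⟨-1, 0⟩, ⟨-1, 1⟩, ⟨0, 1⟩),
   (⟨1, 1⟩, ⟨2, 0⟩, ⟨1, -1⟩, ⟨-1, -1⟩),
   (⟨-1, -1⟩, ⟨-1, 0⟩, ⟨0, 1⟩, ⟨1, 0⟩),
   (⟨0, 0⟩, ⟨-1, 0⟩, ⟨-1, 0⟩, ⟨0, 1⟩),
   (⟨0, 0⟩, ⟨0, 0⟩, ⟨0, 0⟩, ⟨0, 0⟩),
   (⟨1, 0⟩, ⟨0, 0⟩, ⟨0, 0⟩, ⟨1, 0⟩),
   (⟨1, 0⟩, ⟨0, 0⟩, ⟨-1, -1⟩, ⟨-1, 0⟩),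
   (⟨0, 0⟩, ⟨0, 0⟩, ⟨0, 0⟩, ⟨0, 0⟩),
   (⟨-1, 1⟩, ⟨1, 1⟩, ⟨1, 0⟩, ⟨0, -1⟩),
   (⟨0, -1⟩, ⟨-1, -1⟩, ⟨-1, 1⟩, ⟨0, 1⟩),
   (⟨0, 0⟩, ⟨0, 0⟩, ⟨0, 0⟩, ⟨0, 0⟩),
   (⟨0, -1⟩, ⟨-1, -1⟩, ⟨-1, 0⟩, ⟨-1, 1⟩),
   (⟨-1, 1⟩, ⟨1, 1⟩, ⟨2, 0⟩, ⟨1, -1⟩),
   (⟨0, 0⟩, ⟨0, 0⟩, ⟨0, 0⟩, ⟨0, 0⟩),
   (⟨-2, 0⟩, ⟨-1, 1⟩, ⟨1, 1⟩, ⟨1, 0⟩),
   (⟨-2, 0⟩, ⟨-1, 1⟩, ⟨1, 1⟩, ⟨2, 0⟩),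
   (⟨1, 0⟩, ⟨1, 0⟩, ⟨0, -1⟩, ⟨-1, -1⟩),
   (⟨0, 0⟩, ⟨0, 0⟩, ⟨0, 0⟩, ⟨0, 0⟩),
   (⟨1, 0⟩, ⟨0, -1⟩, ⟨0, -1⟩, ⟨-1, 0⟩),
   (⟨1, 0⟩, ⟨1, 0⟩, ⟨-1, 0⟩, ⟨0, 0⟩),
   (⟨1, 0⟩, ⟨0, -1⟩, ⟨-1, 0⟩, ⟨-1, 1⟩),
   (⟨0, 0⟩, ⟨0, 0⟩, ⟨0, 0⟩, ⟨0, 0⟩),
   (⟨0, 0⟩, ⟨0, 0⟩, ⟨0, 0⟩, ⟨0, 0⟩),
   (⟨1, 0⟩, ⟨1, -1⟩, ⟨-1, -1⟩, ⟨-2, 0⟩),
   (⟨1, 0⟩, ⟨1, -1⟩, ⟨0, 0⟩, ⟨-1, 0⟩),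
   (⟨0, -1⟩, ⟨-1, 0⟩, ⟨-1, 1⟩, ⟨1, 1⟩),
   (⟨-1, 1⟩, ⟨0, 1⟩, ⟨1, 0⟩, ⟨1, 0⟩),
   (⟨0, 0⟩, ⟨0, 0⟩, ⟨0, 0⟩, ⟨0, 0⟩),
   (⟨0, -1⟩, ⟨-1, 0⟩, ⟨-1, 0⟩, ⟨0, 0⟩),
   (⟨0, 0⟩, ⟨0, 0⟩, ⟨0, 0⟩, ⟨0, 0⟩),
   (⟨-1, 1⟩, ⟨0, 1⟩, ⟨2, 0⟩, ⟨1, -1⟩),
   (⟨0, 0⟩, ⟨0, 0⟩, ⟨0, 0⟩, ⟨0, 0⟩),
   (⟨-1, 0⟩, ⟨0, 0⟩, ⟨1, 1⟩, ⟨1, 0⟩),
   (⟨-1, 0⟩, ⟨0, 0⟩, ⟨0, 0⟩, ⟨-1, 0⟩),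
   (⟨0, 0⟩, ⟨0, 0⟩, ⟨0, 0⟩, ⟨0, 0⟩),
   (⟨1, -1⟩, ⟨-1, -1⟩, ⟨-2, 0⟩, ⟨-1, 1⟩),
   (⟨0, 1⟩, ⟨1, 1⟩, ⟨1, 0⟩, ⟨1, -1⟩),
   (⟨0, 0⟩, ⟨0, 0⟩, ⟨0, 0⟩, ⟨0, 0⟩),
   (⟨0, 1⟩, ⟨1, 1⟩, ⟨1, -1⟩, ⟨0, -1⟩),
   (⟨1, -1⟩, ⟨-1, -1⟩, ⟨-1, 0⟩, ⟨0, 1⟩),
   (⟨0, 0⟩, ⟨0, 0⟩, ⟨0, 0⟩, ⟨0, 0⟩),
   (⟨-1, 0⟩, ⟨-1, 1⟩, ⟨0, 0⟩, ⟨1, 0⟩),
   (⟨-1, 0⟩, ⟨-1, 1⟩, ⟨1, 1⟩, ⟨2, 0⟩),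
   (⟨0, 1⟩, ⟨1, 0⟩, ⟨1, 0⟩, ⟨0, 0⟩),
   (⟨1, -1⟩, ⟨0, -1⟩, ⟨-2, 0⟩, ⟨-1, 1⟩),
   (⟨0, 0⟩, ⟨0, 0⟩, ⟨0, 0⟩, ⟨0, 0⟩),
   (⟨0, 1⟩, ⟨1, 0⟩, ⟨1, -1⟩, ⟨-1, -1⟩),
   (⟨0, 0⟩, ⟨0, 0⟩, ⟨0, 0⟩, ⟨0, 0⟩),
   (⟨1, -1⟩, ⟨0, -1⟩, ⟨-1, 0⟩, ⟨-1, 0⟩),
   (⟨0, 0⟩, ⟨0, 0⟩, ⟨0, 0⟩, ⟨0, 0⟩),
   (⟨2, 0⟩, ⟨1, -1⟩, ⟨-1, -1⟩, ⟨-2, 0⟩),
   (⟨2, 0⟩, ⟨1, -1⟩, ⟨-1, -1⟩, ⟨-1, 0⟩),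
   (⟨-1, 0⟩, ⟨-1, 0⟩, ⟨1, 0⟩, ⟨0, 0⟩),
   (⟨0, 0⟩, ⟨0, 0⟩, ⟨0, 0⟩, ⟨0, 0⟩),
   (⟨-1, 0⟩, ⟨0, 1⟩, ⟨1, 0⟩, ⟨1, -1⟩),
   (⟨-1, 0⟩, ⟨-1, 0⟩, ⟨0, 1⟩, ⟨1, 1⟩),
   (⟨-1, 0⟩, ⟨0, 1⟩, ⟨0, 1⟩, ⟨1, 0⟩),
   (⟨0, 0⟩, ⟨0, 0⟩, ⟨0, 0⟩, ⟨0, 0⟩)]

def lift : Q → L
  | (a, b, c, d) => table.getD (27 * a.val + 9 * b.val + 3 * c.val + d.val) (0, 0, 0, 0)

def sgn (q : Q) : Zs := (lift q).1 * (lift q).2.2.2 - (lift q).2.1 * (lift q).2.2.1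
def x6 (q : Q) : Zs := (lift q).1 + (lift q).2.2.2
def x7 (q : Q) : Zs := sgn q * x6 q
def x5 (q : Q) : Zs := x6 q * x7 q - 1
def x4 (q : Q) : Zs := sgn q * x5 q
def x3 (q : Q) : Zs := x4 q * x4 q - 1 - x4 q - x5 q
def x8 (q : Q) : Zs := x3 q * x6 q

/-- Five generalized characters vanishing at the elements which have no power equal to `-1`. -/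
def phi : Fin 5 → Q → Zs
  | 0, q => 1 + x5 q - x8 q
  | 1, q => sgn q + x4 q - x8 q
  | 2, q => x3 q - x6 q
  | 3, q => x3 q - x7 q
  | 4, q => 1 + x3 q - x4 q

/-- The Gram matrix of `phi`. -/
def gram : Fin 5 → Fin 5 → ℤ
  | 0, 0 => 3 | 0, 1 => 1 | 0, 2 => 0 | 0, 3 => 0 | 0, 4 => 1
  | 1, 0 => 1 | 1, 1 => 3 | 1, 2 => 0 | 1, 3 => 0 | 1, 4 => -1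
  | 2, 0 => 0 | 2, 1 => 0 | 2, 2 => 2 | 2, 3 => 1 | 2, 4 => 1
  | 3, 0 => 0 | 3, 1 => 0 | 3, 2 => 1 | 3, 3 => 2 | 3, 4 => 1
  | 4, 0 => 1 | 4, 1 => -1 | 4, 2 => 1 | 4, 3 => 1 | 4, 4 => 3

/-- Multiplicities of the trivial character in `phi`. -/
def triv : Fin 5 → ℤ
  | 0 => 1 | 1 => 0 | 2 => 0 | 3 => 0 | 4 => 1

set_option maxRecDepth 100000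

theorem elems_nodup : elems.Nodup := by decide +kernel

theorem mem_elems : ∀ q : Q, q ∈ elems ↔ detQ q ≠ 0 := by decide +kernel

theorem lift_mul : ∀ q ∈ elems, ∀ r ∈ elems, lift (mulQ q r) = mulL (lift q) (lift r) := by
  decide +kernel

theorem lift_one : lift oneQ = (1, 0, 0, 1) := by decide +kernel

theorem sgn_sq : ∀ q ∈ elems, sgn q * sgn q = 1 := by decide +kernel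

theorem tQ_unique : ∀ q ∈ invols, (∀ r ∈ elems, mulQ q r = mulQ r q) → q = tQ := by decide +kernel

theorem phi_one : ∀ i, phi i oneQ = 0 := by decide +kernel

theorem phi_supp : ∀ i, ∀ q ∈ elems, phi i q ≠ 0 →
    ∃ k ∈ List.range 8, powQ q k = tQ := by decide +kernel

theorem powQ_invol : ∀ q ∈ elems, (∃ k ∈ List.range 8, powQ q k = tQ) →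
    ∀ k ∈ List.range 8, powQ q k ∈ invols → powQ q k = tQ := by decide +kernel

theorem phi_gram : ∀ i j,
    (elems.map fun q => phi i q * star (phi j q)).sum = ((48 * gram i j : ℤ) : Zs) := by
  decide +kernel

theorem phi_triv : ∀ i, (elems.map fun q => phi i q).sum = ((48 * triv i : ℤ) : Zs) := by
  decide +kernel

theorem phi_pairs : ∀ i : Fin 5, i < 2 →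
    (invols.map fun u => (invols.map fun v => phi i (mulQ u v)).sum).sum = 192 := by decide +kernel

theorem delta_t : ∀ q ∈ elems,
    3 * phi 0 q + phi 1 q - 2 * phi 4 q + 2 * phi 2 q + 2 * phi 3 q =
      if q = tQ then 48 else 0 := by decide +kernel

theorem congr_fn : ∀ q ∈ elems, 16 * (1 + x3 q) = (if q = oneQ then 48 else 0) +
    (phi 0 q + 3 * phi 1 q + 10 * phi 4 q + 2 * phi 2 q + 2 * phi 3 q) +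
    (if q ∈ invols ∧ q ≠ tQ then 16 else 0) := by decide +kernel

theorem card_elems : elems.length = 48 := by decide +kernel

theorem invols_eq : invols.length = 13 := by decide +kernel

/-- A Sylow 2-subgroup. -/
def syl : List Q := elems.filter fun q => powQ q 16 == oneQ &&
  (let a : Q := (2, 1, 1, 0); (List.range 8).any fun k => powQ a k == q || mulQ (powQ a k) (2, 0, 2, 1) == q)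

theorem card_syl : syl.length = 16 := by decide +kernel

theorem syl_closed : ∀ q ∈ syl, ∀ r ∈ syl, mulQ q r ∈ syl := by decide +kernel

theorem syl_centralizer : ∀ q ∈ invols, (∀ r ∈ syl, mulQ q r = mulQ r q) → q = tQ := by
  decide +kernel

theorem syl_not_sl : ∃ r ∈ syl, detQ r ≠ 1 := by decide +kernel

theorem sl_invol : ∀ q ∈ invols, detQ q = 1 → q = tQ := by decide +kernel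

theorem tQ_mem : tQ ∈ invols ∧ tQ ∈ syl ∧ oneQ ∈ syl := by decide +kernel

theorem elems_noncomm : ∃ q ∈ elems, ∃ r ∈ elems, mulQ q r ≠ mulQ r q := by decide +kernel

end CfsgLib.GLTwoThree
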